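import Cfsg.Agent.Lib.ClosedPair.Simple
import Cfsg.Agent.Lib.PGroup.Basic
import Cfsg.Agent.Lib.Solvable.Basic

/-!
# The product theorem for closed pairs (owner: helper65)

* `conc` : `[T₁, T₂] ⊆ O(G)` for a closed pair
* `commute_of_core_eq_bot` : the elementwise form in a core-free group
-/

set_option autoImplicit false

namespace Cfsg.Agent.ClosedPair

open scoped commutatorElement Pointwise
open Cfsg Subgroup

universe u

variable {G : Type u} [Group G]

theorem Closed.pow_mem' [Finite G] {T : Set G} (h : Closed T) {x : G} (hx : x ∈ T) (n : ℕ) :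
    x ^ n ∈ T := by
  induction n with
  | zero => rw [pow_zero]; exact h.one
  | succ n ih =>
    rw [pow_succ]
    exact h.mul _ (h.isPGroup_zpowers hx) _ (Subgroup.pow_mem _ (mem_zpowers x) n) _ (mem_zpowers x)
      ih hx

theorem isPGroup_sup_zpowers {x : G} {K : Subgroup G} (hx : IsPGroup 2 (zpowers x))
    (hK : IsPGroup 2 K) (h : x ∈ normalizer (K : Set G)) : IsPGroup 2 ↥(K ⊔ zpowers x) := by
  rw [sup_comm]
  exact IsPGroup.to_sup_of_normal_right' hx hK (zpowers_le.2 h)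

/-- In `U⟨y⟩ = G` all commutators lie in `U`. -/
theorem commutator_mem_of_sup_zpowers {U : Subgroup G} [U.Normal] {y : G}
    (h : U ⊔ zpowers y = ⊤) (a b : G) : ⁅a, b⁆ ∈ U := by
  have hq : ∀ g : G, QuotientGroup.mk' U g ∈ zpowers (QuotientGroup.mk' U y) := fun g => by
    obtain ⟨u, hu, z, hz, rfl⟩ := mem_sup_of_normal_left.1 (h.ge (mem_top g))
    rw [map_mul, show QuotientGroup.mk' U u = 1 from (QuotientGroup.eq_one_iff u).2 hu, one_mul,
      ← MonoidHom.map_zpowers]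
    exact mem_map_of_mem _ hz
  refine (QuotientGroup.eq_one_iff _).1 ?_
  show QuotientGroup.mk' U ⁅a, b⁆ = 1
  rw [map_commutatorElement]
  obtain ⟨i, hi⟩ := mem_zpowers_iff.1 (hq a)
  obtain ⟨j, hj⟩ := mem_zpowers_iff.1 (hq b)
  rw [← hi, ← hj]
  exact commutatorElement_eq_one_iff_commute.2 (Commute.zpow_zpow_self _ i j)

variable [Finite G]

/-- `O(L) ∩ U = 1` for `U` normal in a core-free group. -/
theorem core_inf_eq_bot (hO : pPrimeCore 2 G = ⊥) {U L : Subgroup G} [U.Normal] (hUL : U ≤ L) :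
    (pPrimeCore 2 L).map L.subtype ⊓ U = ⊥ := by
  have hLn : L ≤ normalizer ((pPrimeCore 2 L).map L.subtype : Set G) := by
    haveI := Cores.pPrimeCore_normal 2 ↥L
    have h := le_normalizer_map L.subtype (H := pPrimeCore 2 L)
    rw [normalizer_eq_top, ← MonoidHom.range_eq_map, range_subtype] at h
    exact h
  have hle : (pPrimeCore 2 L).map L.subtype ⊓ U ≤ Components.OCore 2 U := by
    refine Components.le_OCore inf_le_right
      ((le_inf (hUL.trans hLn) le_normalizer).trans inf_normalizer_le_normalizer_inf) ?_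
    refine ((Cores.coprime_card_pPrimeCore (G := ↥L) 2).coprime_dvd_left ?_)
    rw [← Cores.card_map_subtype L]
    exact Subgroup.card_dvd_of_le inf_le_left
  haveI : (Components.OCore 2 U).Normal := ⟨fun n hn g => (mem_normalizer_iff.1
    (Components.normalizer_le_normalizer_OCore U ((normalizer_eq_top (H := U)).ge (mem_top g))) n).1 hn⟩
  exact le_bot_iff.1 (hle.trans ((Cores.le_pPrimeCore inferInstance
    (Components.coprime_card_OCore U)).trans hO.le))

/-- The induction hypothesis applied in a proper subgroup. -/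
theorem commute_of_proper
    (IH : ∀ (H : Type u) [Group H] [Finite H], Nat.card H < Nat.card G →
      ∀ A₁ A₂ : Set H, ClosedPair A₁ A₂ → Conc A₁ A₂)
    (hO : pPrimeCore 2 G = ⊥) {T₁ T₂ : Set G} (h : ClosedPair T₁ T₂) {U L : Subgroup G} [U.Normal]
    (hUL : U ≤ L) (hL : L ≠ ⊤) {x y : G} (hx : x ∈ T₁) (hy : y ∈ T₂) (hxL : x ∈ L) (hyL : y ∈ L)
    (hxy : ⁅x, y⁆ ∈ U) : x * y = y * x := by
  have hlt : Nat.card L < Nat.card G := lt_of_le_of_ne (Subgroup.card_le_card_group L)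
    fun e => hL (Subgroup.card_eq_iff_eq_top L |>.1 e)
  have h1 := IH L hlt _ _ (h.preimage L.subtype_injective) ⟨x, hxL⟩ hx ⟨y, hyL⟩ hy
  have h2 : ⁅x, y⁆ ∈ (pPrimeCore 2 L).map L.subtype ⊓ U := ⟨⟨_, h1, rfl⟩, hxy⟩
  rw [core_inf_eq_bot hO hUL, mem_bot] at h2
  exact commutatorElement_eq_one_iff_commute.1 h2

/-- The case of a normal subgroup containing one side. -/
theorem commute_of_closure_le
    (IH : ∀ (H : Type u) [Group H] [Finite H], Nat.card H < Nat.card G →
      ∀ A₁ A₂ : Set H, ClosedPair A₁ A₂ → Conc A₁ A₂)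
    (hO : pPrimeCore 2 G = ⊥) {T₁ T₂ : Set G} (h : ClosedPair T₁ T₂)
    (hcyc : ∀ y ∈ T₂, closure T₁ ⊔ zpowers y ≠ ⊤) :
    ∀ x ∈ T₁, ∀ y ∈ T₂, x * y = y * x := fun x hx y hy => by
  haveI := h.left.normal_closure
  refine commute_of_proper IH hO h le_sup_left (hcyc y hy) hx hy
    (mem_sup_left (subset_closure hx)) (mem_sup_right (mem_zpowers y)) ?_
  rw [commutatorElement_def, mul_assoc, mul_assoc, ← mul_assoc y]
  exact mul_mem (subset_closure hx)
    (Subgroup.Normal.conj_mem inferInstance _ (inv_mem (subset_closure hx)) y)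

/-- An isolated element of a closed set is central. -/
theorem mem_center_of_isolated (hO : pPrimeCore 2 G = ⊥) {T : Set G} (h : Closed T) {x : G}
    (hx : x ∈ T) (hiso : IsIsolated x) : x ∈ center G := by
  obtain ⟨k, hk⟩ := h.pow x hx
  obtain ⟨j, -, hj⟩ := (Nat.dvd_prime_pow Nat.prime_two).1 (orderOf_dvd_of_pow_eq_one hk)
  refine mem_center_iff.2 fun g => ?_
  have h1 := ZStar.zStar_pElement ZStar.uniqueInvolution ⟨j, hj⟩ hiso g
  rw [hO, mem_bot, mul_inv_eq_one, mul_inv_eq_iff_eq_mul] at h1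
  exact h1

/-- A side meeting a nonabelian minimal normal subgroup trivially centralises it. -/
theorem le_centralizer_of_disjoint (hO : pPrimeCore 2 G = ⊥) {T : Set G} (h : Closed T)
    {N : Subgroup G} [N.Normal] (hN : ∀ x ∈ T, x ∈ N → x = 1) :
    closure T ≤ centralizer (N : Set G) := by
  refine (closure_le _).2 fun x hx => mem_centralizer_iff.2 fun n hn => ?_
  set L := N ⊔ zpowers x with hL
  have hxL : x ∈ L := mem_sup_right (mem_zpowers x)
  have hnL : n ∈ L := mem_sup_left hn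
  have hiso : IsIsolated (⟨x, hxL⟩ : L) := by
    rintro ⟨g, hg⟩ hc
    refine Subtype.ext ?_
    show g * x * g⁻¹ = x
    have hc' : x * (g * x * g⁻¹) = g * x * g⁻¹ * x := congrArg Subtype.val hc.eq
    have hgT := h.conj g x hx
    have hP : IsPGroup 2 ↥(zpowers x ⊔ zpowers (g * x * g⁻¹)) := by
      refine IsPGroup.to_sup_of_normal_right' (h.isPGroup_zpowers hx) (h.isPGroup_zpowers hgT) ?_
      rw [zpowers_le]
      refine Subgroup.centralizer_le_normalizer _ ?_
      rw [zpowers_eq_closure, centralizer_closure]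
      exact mem_centralizer_singleton_iff.2 hc'
    have hw : x⁻¹ * (g * x * g⁻¹) ∈ T := h.mul _ hP _ (inv_mem (mem_sup_left (mem_zpowers x))) _
      (mem_sup_right (mem_zpowers _)) (h.inv_mem hx) hgT
    have hwN : x⁻¹ * (g * x * g⁻¹) ∈ N := by
      obtain ⟨m, hm, z, hz, rfl⟩ := mem_sup_of_normal_left.1 hg
      obtain ⟨i, rfl⟩ := mem_zpowers_iff.1 hz
      rw [show x⁻¹ * (m * x ^ i * x * (m * x ^ i)⁻¹) = (x⁻¹ * m * x) * m⁻¹ by group]
      refine N.mul_mem ?_ (N.inv_mem hm)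
      simpa using Subgroup.Normal.conj_mem (inferInstance : N.Normal) m hm x⁻¹
    exact (inv_mul_eq_one.1 (hN _ hw hwN)).symm
  obtain ⟨k, hk⟩ := h.pow x hx
  obtain ⟨j, -, hj⟩ := (Nat.dvd_prime_pow Nat.prime_two).1 (orderOf_dvd_of_pow_eq_one hk)
  have h1 := ZStar.zStar_pElement ZStar.uniqueInvolution (x := (⟨x, hxL⟩ : L))
    ⟨j, by rw [Subgroup.orderOf_mk]; exact hj⟩ hiso ⟨n, hnL⟩
  have h2 : n * x * n⁻¹ * x⁻¹ ∈ (pPrimeCore 2 L).map L.subtype ⊓ N := by
    refine ⟨⟨_, h1, rfl⟩, ?_⟩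
    rw [mul_assoc, mul_assoc, ← mul_assoc x]
    exact N.mul_mem hn (Subgroup.Normal.conj_mem inferInstance _ (N.inv_mem hn) x)
  rw [core_inf_eq_bot hO le_sup_left, mem_bot, mul_inv_eq_one, mul_inv_eq_iff_eq_mul] at h2
  exact h2

/-- The case of a nonsolvable proper minimal normal subgroup. -/
theorem commute_of_nonsolvable
    (IH : ∀ (H : Type u) [Group H] [Finite H], Nat.card H < Nat.card G →
      ∀ A₁ A₂ : Set H, ClosedPair A₁ A₂ → Conc A₁ A₂)
    (hO : pPrimeCore 2 G = ⊥) {T₁ T₂ : Set G} (h : ClosedPair T₁ T₂) {N : Subgroup G} [hNn : N.Normal]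
    (hmin : ∀ M : Subgroup G, M.Normal → M ≤ N → M = ⊥ ∨ M = N) (hNs : ¬ IsMulCommutative N)
    (hT : ∀ x ∈ T₁, x ∈ N → x = 1) : ∀ x ∈ T₁, ∀ y ∈ T₂, x * y = y * x := by
  have hU := le_centralizer_of_disjoint hO h.left hT
  haveI := h.left.normal_closure
  refine commute_of_closure_le IH hO h fun y _ htop => hNs ⟨⟨fun a b => Subtype.ext ?_⟩⟩
  have hbot : closure T₁ ⊓ N = ⊥ := by
    refine (hmin _ inferInstance inf_le_right).resolve_right fun e => hNs ⟨⟨fun a b => Subtype.ext ?_⟩⟩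
    exact (hU (e.ge a.2).1 b b.2).symm
  refine (commutatorElement_eq_one_iff_commute.1 ?_).eq
  rw [← mem_bot, ← hbot]
  refine ⟨commutator_mem_of_sup_zpowers htop _ _, ?_⟩
  rw [commutatorElement_def]
  exact N.mul_mem (N.mul_mem (N.mul_mem a.2 b.2) (N.inv_mem a.2)) (N.inv_mem b.2)

/-- The case of a noncentral normal 2-subgroup. -/
theorem commute_of_noncentral
    (IH : ∀ (H : Type u) [Group H] [Finite H], Nat.card H < Nat.card G →
      ∀ A₁ A₂ : Set H, ClosedPair A₁ A₂ → Conc A₁ A₂)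
    (hO : pPrimeCore 2 G = ⊥) {T₁ T₂ : Set G} (h : ClosedPair T₁ T₂) {N : Subgroup G} [N.Normal]
    (hmin : ∀ M : Subgroup G, M.Normal → M ≤ N → M = ⊥ ∨ M = N) (hN0 : N ≠ ⊥) (hN2 : IsPGroup 2 N)
    (hNc : ¬ N ≤ center G) (hT : ∀ x ∈ T₁, x ∈ N → x = 1) :
    ∀ x ∈ T₁, ∀ y ∈ T₂, x * y = y * x := by
  haveI : Fact (Nat.Prime 2) := ⟨Nat.prime_two⟩
  have hU : closure T₁ ≤ centralizer (N : Set G) := by
    refine (closure_le _).2 fun x hx => mem_centralizer_iff.2 fun n hn => ?_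
    have hP := isPGroup_sup_zpowers (h.left.isPGroup_zpowers hx) hN2
      ((normalizer_eq_top (H := N)).ge (mem_top x))
    have hxP : x ∈ N ⊔ zpowers x := mem_sup_right (mem_zpowers x)
    have hnP : n ∈ N ⊔ zpowers x := mem_sup_left hn
    have hw : x * (n * x⁻¹ * n⁻¹) ∈ T₁ := h.left.mul _ hP _ hxP _
      (mul_mem (mul_mem hnP (inv_mem hxP)) (inv_mem hnP)) hx (h.left.conj n _ (h.left.inv_mem hx))
    have hwN : x * (n * x⁻¹ * n⁻¹) ∈ N := by
      rw [show x * (n * x⁻¹ * n⁻¹) = (x * n * x⁻¹) * n⁻¹ by group]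
      exact N.mul_mem (Subgroup.Normal.conj_mem inferInstance n hn x) (N.inv_mem hn)
    have e := hT _ hw hwN
    rw [show x * (n * x⁻¹ * n⁻¹) = ⁅x, n⁆ by rw [commutatorElement_def]; group] at e
    exact (commutatorElement_eq_one_iff_commute.1 e).eq.symm
  haveI := h.left.normal_closure
  refine commute_of_closure_le IH hO h fun y hy htop => hNc ?_
  set Q := N ⊔ zpowers y
  have hQ : IsPGroup 2 Q := isPGroup_sup_zpowers (h.right.isPGroup_zpowers hy) hN2
    ((normalizer_eq_top (H := N)).ge (mem_top y))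
  haveI : (N.subgroupOf Q).Normal := normal_subgroupOf
  have hne : N.subgroupOf Q ≠ ⊥ := by
    rw [Ne, subgroupOf_eq_bot]
    intro hd
    exact hN0 (le_bot_iff.1 (hd le_rfl le_sup_left))
  obtain ⟨z, hz, hz1⟩ := (Subgroup.bot_or_exists_ne_one _).resolve_left
    (PGroup.inf_center_ne_bot hQ hne)
  have hzy : (z : G) * y = y * z := congrArg Subtype.val
    ((mem_center_iff.1 hz.2 ⟨y, mem_sup_right (mem_zpowers y)⟩).symm)
  have htop' : centralizer ({(z : G)} : Set G) = ⊤ := top_le_iff.1 (htop.ge.trans (sup_le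
    (fun u hu => mem_centralizer_singleton_iff.2 (hU hu z (mem_subgroupOf.1 hz.1)).symm)
    (zpowers_le.2 (mem_centralizer_singleton_iff.2 hzy.symm))))
  have hzc : (z : G) ∈ center G := mem_center_iff.2 fun g =>
    mem_centralizer_singleton_iff.1 (htop'.ge (mem_top g))
  rcases hmin (N ⊓ center G) inferInstance inf_le_left with e | e
  · refine absurd (Subtype.ext ?_) hz1
    exact mem_bot.1 (e ▸ ⟨mem_subgroupOf.1 hz.1, hzc⟩)
  · exact e ▸ inf_le_right

/-- Reduction modulo a central involution. -/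
theorem commute_of_central
    (IH : ∀ (H : Type u) [Group H] [Finite H], Nat.card H < Nat.card G →
      ∀ A₁ A₂ : Set H, ClosedPair A₁ A₂ → Conc A₁ A₂)
    (hO : pPrimeCore 2 G = ⊥) {T₁ T₂ : Set G} (h : ClosedPair T₁ T₂) {a : G} (ha : a ∈ center G)
    (ha2 : orderOf a = 2)
    (hpref : a ∈ T₁ ∨ a ∈ T₂ ∨ ∀ b ∈ center G, b ∈ T₁ → b = 1) :
    ∀ x ∈ T₁, ∀ y ∈ T₂, x * y = y * x := by
  haveI : Fact (Nat.Prime 2) := ⟨Nat.prime_two⟩
  haveI hHn : (zpowers a).Normal := PGroup.zpowers_normal_of_mem_center ha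
  set H := zpowers a
  have hH2 : IsPGroup 2 H := IsPGroup.of_card (n := 1) (by rw [Nat.card_zpowers, ha2, pow_one])
  have hHmem : ∀ z ∈ H, z = 1 ∨ z = a := fun z hz => by
    obtain ⟨i, rfl⟩ := mem_zpowers_iff.1 hz
    have h2 : a ^ (2 : ℤ) = 1 := by
      rw [show (2 : ℤ) = ((2 : ℕ) : ℤ) from rfl, zpow_natCast, ← ha2, pow_orderOf_eq_one]
    rcases Int.even_or_odd' i with ⟨k, rfl | rfl⟩
    · left; rw [zpow_mul, h2, one_zpow]
    · right; rw [zpow_add, zpow_one, zpow_mul, h2, one_zpow, one_mul]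
  have hdisj : ∀ x ∈ T₁, ∀ y ∈ T₂, x⁻¹ * y ∈ H → x ∈ H := by
    intro x hx y hy hm
    rcases hHmem _ hm with e | e
    · rw [inv_mul_eq_one] at e
      rw [h.disj x hx (e ▸ hy)]
      exact one_mem H
    have hy' : y = x * a := by rw [← e]; group
    have hnorm : ∀ g : G, g ∈ normalizer (H : Set G) := fun g =>
      (normalizer_eq_top (H := H)).ge (mem_top g)
    have hP := isPGroup_sup_zpowers (h.left.isPGroup_zpowers hx) hH2 (hnorm x)
    have hxP : x ∈ H ⊔ zpowers x := mem_sup_right (mem_zpowers x)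
    have haP : a ∈ H ⊔ zpowers x := mem_sup_left (mem_zpowers a)
    rcases hpref with ha' | ha' | hnone
    · have h1 : y = 1 := h.disj y (hy' ▸ h.left.mul _ hP _ hxP _ haP hx ha') hy
      rw [h1] at hy'
      rw [eq_inv_of_mul_eq_one_left hy'.symm]
      exact inv_mem (mem_zpowers a)
    · have e1 : x = y * a⁻¹ := by rw [hy']; group
      have h1 : x = 1 := h.disj x hx (by
        rw [e1]
        exact h.right.mul _ hP _ (hy' ▸ mul_mem hxP haP) _ (inv_mem haP) hy (h.right.inv_mem ha'))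
      exact h1 ▸ one_mem H
    · have hiso : IsIsolated x := fun g hc => by
        have hgT := h.left.conj g x hx
        have hQ : IsPGroup 2 ↥((H ⊔ zpowers x) ⊔ zpowers (g * x * g⁻¹)) := by
          refine isPGroup_sup_zpowers (h.left.isPGroup_zpowers hgT) hP ?_
          refine Signalizer.le_normalizer_sup (zpowers_le.2 (hnorm _)) ?_ (mem_zpowers _)
          refine zpowers_le.2 (Subgroup.centralizer_le_normalizer _ ?_)
          rw [zpowers_eq_closure, centralizer_closure]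
          exact mem_centralizer_singleton_iff.2 hc.eq.symm
        set Q := (H ⊔ zpowers x) ⊔ zpowers (g * x * g⁻¹)
        have hxQ : x ∈ Q := mem_sup_left hxP
        have haQ : a ∈ Q := mem_sup_left haP
        have hgQ : g * x * g⁻¹ ∈ Q := mem_sup_right (mem_zpowers _)
        have hgy : g * y * g⁻¹ = g * x * g⁻¹ * a := by
          rw [hy', show g * (x * a) * g⁻¹ = g * x * g⁻¹ * (g * a * g⁻¹) by group,
            mem_center_iff.1 ha g, mul_inv_cancel_right]
        have hw1 : x⁻¹ * (g * x * g⁻¹) ∈ T₁ :=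
          h.left.mul _ hQ _ (inv_mem hxQ) _ hgQ (h.left.inv_mem hx) hgT
        have hw2 : y⁻¹ * (g * y * g⁻¹) ∈ T₂ :=
          h.right.mul _ hQ _ (inv_mem (hy' ▸ mul_mem hxQ haQ)) _ (hgy ▸ mul_mem hgQ haQ)
            (h.right.inv_mem hy) (h.right.conj g y hy)
        rw [hgy, hy', mul_inv_rev, show a⁻¹ * x⁻¹ * (g * x * g⁻¹ * a) =
          a⁻¹ * (x⁻¹ * (g * x * g⁻¹) * a) by group,
          mem_center_iff.1 ha (x⁻¹ * (g * x * g⁻¹)), inv_mul_cancel_left] at hw2
        exact (inv_mul_eq_one.1 (h.disj _ hw1 hw2)).symm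
      rw [hnone x (mem_center_of_isolated hO h.left hx hiso) hx]
      exact one_mem H
  intro x hx y hy
  have hlt : Nat.card (G ⧸ H) < Nat.card G := by
    rw [Subgroup.card_eq_card_quotient_mul_card_subgroup H, Nat.card_zpowers, ha2]
    have := Nat.card_pos (α := G ⧸ H)
    omega
  have h1 := IH (G ⧸ H) hlt _ _ (h.image H hdisj) _ ⟨x, hx, rfl⟩ _ ⟨y, hy, rfl⟩
  rw [ZStar.core_quotient_central hO ha ha2, mem_bot] at h1
  have hn : y ∈ normalizer ((H ⊔ zpowers x : Subgroup G) : Set G) := by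
    refine Coprime.mem_normalizer_of_forall fun z hz => ?_
    obtain ⟨u, hu, v, hv, rfl⟩ := mem_sup_of_normal_left.1 hz
    obtain ⟨i, rfl⟩ := mem_zpowers_iff.1 hv
    rw [show y * (u * x ^ i) * y⁻¹ = (y * u * y⁻¹) * (y * x * y⁻¹) ^ i by rw [conj_zpow]; group]
    refine mul_mem (mem_sup_left (hHn.conj_mem u hu y)) (zpow_mem ?_ i)
    have hmem : ⁅x, y⁆ ∈ H := (QuotientGroup.eq_one_iff _).1 (by
      show QuotientGroup.mk' H ⁅x, y⁆ = 1
      rw [map_commutatorElement]; exact h1)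
    rw [show y * x * y⁻¹ = ⁅x, y⁆⁻¹ * x by rw [commutatorElement_def]; group]
    exact mul_mem (mem_sup_left (inv_mem hmem)) (mem_sup_right (mem_zpowers x))
  exact h.comm _ (isPGroup_sup_zpowers (h.right.isPGroup_zpowers hy)
    (isPGroup_sup_zpowers (h.left.isPGroup_zpowers hx) hH2
      ((normalizer_eq_top (H := H)).ge (mem_top x))) hn)
    x (mem_sup_left (mem_sup_right (mem_zpowers x))) y (mem_sup_right (mem_zpowers y)) hx hy

/-- The product theorem in a core-free group, given it in smaller groups. -/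
theorem commute_of_core_eq_bot_aux
    (IH : ∀ (H : Type u) [Group H] [Finite H], Nat.card H < Nat.card G →
      ∀ A₁ A₂ : Set H, ClosedPair A₁ A₂ → Conc A₁ A₂)
    (hO : pPrimeCore 2 G = ⊥) {T₁ T₂ : Set G} (h : ClosedPair T₁ T₂) :
    ∀ x ∈ T₁, ∀ y ∈ T₂, x * y = y * x := by
  haveI : Fact (Nat.Prime 2) := ⟨Nat.prime_two⟩
  intro x hx y hy
  by_cases hx1 : x = 1
  · simp [hx1]
  by_cases hy1 : y = 1
  · simp [hy1]
  by_contra hxy
  haveI : Nontrivial G := ⟨⟨x, 1, hx1⟩⟩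
  by_cases hs : IsSimpleGroup G
  · have hna : ∃ a b : G, a * b ≠ b * a := ⟨x, y, hxy⟩
    refine false_of_simple hna h (fun a ha1 => ?_) hx hx1 hy hy1
    refine IH _ (lt_of_le_of_ne (Subgroup.card_le_card_group _) fun e => ?_) _ _
      (h.preimage (Subgroup.subtype_injective _))
    have htop := (Subgroup.card_eq_iff_eq_top _).1 e
    have ha : a ∈ center G := mem_center_iff.2 fun g =>
      mem_centralizer_singleton_iff.1 (htop.ge (mem_top g))
    rcases (inferInstance : (center G).Normal).eq_bot_or_eq_top with e' | e'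
    · exact ha1 (mem_bot.1 (e' ▸ ha))
    · exact hxy (mem_center_iff.1 (e'.ge (mem_top y)) x)
  obtain ⟨N, hNn, hN0, hmin⟩ := Cores.exists_minimal_normal (G := G)
  have hNtop : N ≠ ⊤ := fun e => hs ⟨fun M hM => e ▸ hmin M hM (e ▸ le_top)⟩
  by_cases hsol : Group.IsSolvable N
  swap
  · have hNs : ¬ IsMulCommutative N := fun hc =>
      hsol (Group.isSolvable_of_comm fun a b => hc.is_comm.comm a b)
    by_cases h1 : ∀ z ∈ T₁, z ∈ N → z = 1
    · exact hxy (commute_of_nonsolvable IH hO h hmin hNs h1 x hx y hy)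
    by_cases h2 : ∀ z ∈ T₂, z ∈ N → z = 1
    · exact hxy (commute_of_nonsolvable IH hO h.symm hmin hNs h2 y hy x hx).symm
    push Not at h1 h2
    obtain ⟨u, hu, huN, hu1⟩ := h1
    obtain ⟨v, hv, hvN, hv1⟩ := h2
    have hgen : ∀ {T : Set G}, Closed T → ∀ w ∈ T, w ∈ N → w ≠ 1 →
        closure {z | z ∈ T ∧ z ∈ N} = N := fun {T} hT w hw hwN hw1 => by
      refine (hmin _ ⟨fun n hn g => ?_⟩ ((closure_le _).2 fun z hz => hz.2)).resolve_left
        fun e => hw1 (mem_bot.1 (e ▸ subset_closure ⟨hw, hwN⟩))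
      have hle : closure {z | z ∈ T ∧ z ∈ N} ≤
          (closure {z | z ∈ T ∧ z ∈ N}).comap (MulAut.conj g).toMonoidHom :=
        (closure_le _).2 fun z hz => subset_closure ⟨hT.conj g z hz.1, hNn.conj_mem z hz.2 g⟩
      exact hle hn
    have hcomm : ∀ a ∈ {z | z ∈ T₁ ∧ z ∈ N}, ∀ b ∈ {z | z ∈ T₂ ∧ z ∈ N}, a * b = b * a :=
      fun a ha b hb => commute_of_proper IH hO h le_rfl hNtop ha.1 hb.1 ha.2 hb.2 (by
        rw [commutatorElement_def]
        exact N.mul_mem (N.mul_mem (N.mul_mem ha.2 hb.2) (N.inv_mem ha.2)) (N.inv_mem hb.2))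
    refine hNs ⟨⟨fun a b => Subtype.ext ?_⟩⟩
    have ha : (a : G) ∈ centralizer (closure {z | z ∈ T₂ ∧ z ∈ N} : Set G) := by
      rw [centralizer_closure]
      refine (closure_le _).2 (fun z hz => mem_centralizer_iff.2 fun b hb => (hcomm z hz b hb).symm)
        ((hgen h.left u hu huN hu1).ge a.2)
    exact (ha b ((hgen h.right v hv hvN hv1).ge b.2)).symm
  haveI := hsol
  haveI := hNn
  obtain ⟨-, p, hp, hpN, hexp⟩ := Solvable.elementaryAbelian_of_minimal_normal N hN0 hmin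
  obtain rfl : p = 2 := by
    by_contra hp2
    haveI : Fact p.Prime := ⟨hp⟩
    obtain ⟨k, hk⟩ := IsPGroup.iff_card.1 hpN
    exact hN0 (le_bot_iff.1 ((Cores.le_pPrimeCore hNn
      (hk ▸ Nat.Coprime.pow_left k ((Nat.coprime_primes hp Nat.prime_two).2 hp2))).trans hO.le))
  by_cases hNc : N ≤ center G
  · obtain ⟨a, haN, ha1⟩ := (Subgroup.bot_or_exists_ne_one N).resolve_left hN0
    have ha2 : orderOf a = 2 := orderOf_eq_prime (hexp a haN) ha1
    by_cases hex : ∃ b ∈ center G, orderOf b = 2 ∧ b ∈ T₁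
    · obtain ⟨b, hb, hb2, hbT⟩ := hex
      exact hxy (commute_of_central IH hO h hb hb2 (Or.inl hbT) x hx y hy)
    refine hxy (commute_of_central IH hO h (hNc haN) ha2 (Or.inr (Or.inr fun b hb hbT => ?_)) x hx y hy)
    by_contra hb1
    obtain ⟨t, htT, ht, ht1⟩ := (h.left.preimage (center G).subtype_injective).exists_involution
      (x := ⟨b, hb⟩) hbT fun e => hb1 (congrArg Subtype.val e)
    exact hex ⟨t, t.2, orderOf_eq_prime (by rw [pow_two]; exact congrArg Subtype.val ht)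
      fun e => ht1 (Subtype.ext e), htT⟩
  by_cases h1 : ∀ z ∈ T₁, z ∈ N → z = 1
  · exact hxy (commute_of_noncentral IH hO h hmin hN0 hpN hNc h1 x hx y hy)
  have hside : ∀ {T : Set G}, (hT : Closed T) → (¬ ∀ z ∈ T, z ∈ N → z = 1) →
      ∀ z ∈ N, z ∈ T := fun {T} hT hne => by
    have hn : (hT.sub N hpN).Normal :=
      ⟨fun n hn g => ⟨hNn.conj_mem n hn.1 g, hT.conj g n hn.2⟩⟩
    rcases hmin _ hn fun z hz => hz.1 with e | e
    · exact absurd (fun z hz hzN => mem_bot.1 (e ▸ (⟨hzN, hz⟩ : z ∈ hT.sub N hpN))) hne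
    · exact fun z hz => (e.ge hz).2
  by_cases h2 : ∀ z ∈ T₂, z ∈ N → z = 1
  · exact hxy (commute_of_noncentral IH hO h.symm hmin hN0 hpN hNc h2 y hy x hx).symm
  exact hN0 ((Subgroup.eq_bot_iff_forall N).2 fun z hz =>
    h.disj z (hside h.left h1 z hz) (hside h.right h2 z hz))

/-- The quotient by the core again carries a closed pair. -/
theorem core_disjoint {T₁ T₂ : Set G} (h : ClosedPair T₁ T₂) :
    ∀ x ∈ T₁, ∀ y ∈ T₂, x⁻¹ * y ∈ pPrimeCore 2 G → x ∈ pPrimeCore 2 G := by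
  haveI : Fact (Nat.Prime 2) := ⟨Nat.prime_two⟩
  intro x hx y hy hm
  set O := pPrimeCore 2 G
  have hxy : QuotientGroup.mk' O x = QuotientGroup.mk' O y := QuotientGroup.eq.2 hm
  obtain ⟨P, hP⟩ := exists_sylow_ge_image O ((zpowers x).map (QuotientGroup.mk' O))
    ((h.left.isPGroup_zpowers hx).map _)
  obtain ⟨n, hn, hnP, hnT, en⟩ := h.left.exists_lift O P hx (hP (mem_map_of_mem _ (mem_zpowers x)))
  obtain ⟨m, hm', hmP, hmT, em⟩ := h.right.exists_lift O P hy
    (hxy ▸ hP (mem_map_of_mem _ (mem_zpowers x)))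
  have h1 : (n * x * n⁻¹)⁻¹ * (m * y * m⁻¹) ∈ O ⊓ (P : Subgroup G) :=
    ⟨QuotientGroup.eq.1 (en.trans (hxy.trans em.symm)),
      (P : Subgroup G).mul_mem ((P : Subgroup G).inv_mem hnP) hmP⟩
  obtain ⟨k, hk⟩ := IsPGroup.iff_card.1 P.isPGroup'
  rw [Coprime.inf_eq_bot ((Cores.coprime_card_pPrimeCore (G := G) 2).pow_right k |> fun h => hk ▸ h),
    mem_bot, inv_mul_eq_one] at h1
  have h2 := h.disj _ hnT (h1 ▸ hmT)
  rw [mul_inv_eq_one, mul_eq_left] at h2
  exact h2 ▸ one_mem O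

theorem conc_aux : ∀ (n : ℕ) (G : Type u) [Group G] [Finite G] (T₁ T₂ : Set G),
    Nat.card G = n → ClosedPair T₁ T₂ → Conc T₁ T₂ := by
  intro n
  induction n using Nat.strong_induction_on with
  | _ n ih =>
  intro G _ _ T₁ T₂ hn h x hx y hy
  have IH : ∀ (H : Type u) [Group H] [Finite H], Nat.card H < Nat.card G →
      ∀ A₁ A₂ : Set H, ClosedPair A₁ A₂ → Conc A₁ A₂ :=
    fun H _ _ hlt A₁ A₂ hA => ih _ (hn ▸ hlt) H A₁ A₂ rfl hA
  by_cases hO : pPrimeCore 2 G = ⊥
  · rw [hO, mem_bot]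
    exact commutatorElement_eq_one_iff_commute.2 (commute_of_core_eq_bot_aux IH hO h x hx y hy)
  set O := pPrimeCore 2 G
  have hlt : Nat.card (G ⧸ O) < Nat.card G := by
    rw [Subgroup.card_eq_card_quotient_mul_card_subgroup O]
    exact lt_mul_of_one_lt_right Nat.card_pos (Subgroup.one_lt_card_iff_ne_bot O |>.2 hO)
  have h1 := IH (G ⧸ O) hlt _ _ (h.image O (core_disjoint h)) _ ⟨x, hx, rfl⟩ _ ⟨y, hy, rfl⟩
  rw [Cores.pPrimeCore_quotient_self, mem_bot, ← map_commutatorElement] at h1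
  exact (QuotientGroup.eq_one_iff _).1 h1

/-- The product theorem. -/
theorem conc {T₁ T₂ : Set G} (h : ClosedPair T₁ T₂) : Conc T₁ T₂ :=
  conc_aux _ G T₁ T₂ rfl h

/-- The product theorem in a core-free group. -/
theorem commute_of_core_eq_bot (hO : pPrimeCore 2 G = ⊥) {T₁ T₂ : Set G} (h : ClosedPair T₁ T₂) :
    ∀ x ∈ T₁, ∀ y ∈ T₂, x * y = y * x := fun x hx y hy => by
  have h1 := conc h x hx y hy
  rw [hO, mem_bot] at h1
  exact commutatorElement_eq_one_iff_commute.1 h1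

end Cfsg.Agent.ClosedPair
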