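import Cfsg.Prelude.Def_TwoFusion
import Cfsg.Agent.Lib.ClosedPair.Main
import Cfsg.Agent.Lib.PReduced.Local
import Mathlib.GroupTheory.Focal

/-!
# Two strongly closed subgroups whose product is a Sylow 2-subgroup (owner: helper67)

For `S = S₁ × S₂` with both factors strongly closed and `O(G) = 1`:
* `classOf`, `closedPair_classOf` : the two class sets form a closed pair (only commuting and meeting
  trivially is needed)
* `commute_normalClosure` : the normal closures `N₁`, `N₂` commute elementwise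
* `sylow_inf_normalClosure` : `S ∩ N₁ = S₁` (focal subgroup theorem in `N₁`)
* `normalClosure_inf` : `N₁ ∩ N₂ = 1`
-/

set_option autoImplicit false
set_option linter.unusedSectionVars false

namespace Cfsg.Agent.ClosedPair

open Cfsg Subgroup
open scoped commutatorElement

variable {G : Type*} [Group G] [Finite G]

/-- The elements with a conjugate in `A`. -/
def classOf (A : Subgroup G) : Set G := {x | ∃ g : G, g * x * g⁻¹ ∈ A}

theorem mem_classOf_of_mem {A : Subgroup G} {x : G} (hx : x ∈ A) : x ∈ classOf A :=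
  ⟨1, by simpa using hx⟩

/-- Inside the Sylow subgroup the class set is the subgroup itself. -/
theorem mem_classOf_iff {A S : Subgroup G} (hsc : IsStronglyClosed A S) {x : G} (hx : x ∈ S) :
    x ∈ classOf A ↔ x ∈ A := by
  refine ⟨?_, mem_classOf_of_mem⟩
  rintro ⟨g, hg⟩
  have e : g⁻¹ * (g * x * g⁻¹) * g⁻¹⁻¹ = x := by group
  have h1 := hsc.2 _ hg g⁻¹ (by rw [e]; exact hx)
  rwa [e] at h1

theorem classOf_conj {A : Subgroup G} (g : G) {x : G} (hx : x ∈ classOf A) :
    g * x * g⁻¹ ∈ classOf A := by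
  obtain ⟨k, hk⟩ := hx
  refine ⟨k * g⁻¹, ?_⟩
  rw [show k * g⁻¹ * (g * x * g⁻¹) * (k * g⁻¹)⁻¹ = k * x * k⁻¹ by group]
  exact hk

theorem exists_conj_le (S : Sylow 2 G) {P : Subgroup G} (hP : IsPGroup 2 P) :
    ∃ g : G, ∀ z ∈ P, g * z * g⁻¹ ∈ (S : Subgroup G) := by
  haveI : Fact (Nat.Prime 2) := ⟨Nat.prime_two⟩
  obtain ⟨Q, hQ⟩ := hP.exists_le_sylow
  obtain ⟨g, hg⟩ := MulAction.exists_smul_eq G Q S
  refine ⟨g, fun z hz => ?_⟩
  rw [← hg, Sylow.coe_subgroup_smul, Coprime.mem_conj]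
  simpa [mul_assoc] using hQ hz

theorem closed_classOf (S : Sylow 2 G) {A : Subgroup G}
    (hsc : IsStronglyClosed A (S : Subgroup G)) : Closed (classOf A) := by
  refine ⟨mem_classOf_of_mem A.one_mem, fun g x hx => classOf_conj g hx, ?_, ?_⟩
  · rintro x ⟨g, hg⟩
    obtain ⟨k, hk⟩ := (S.isPGroup'.to_le hsc.1) ⟨_, hg⟩
    refine ⟨k, ?_⟩
    have h : (MulAut.conj g x) ^ 2 ^ k = 1 := congrArg Subtype.val hk
    rwa [← map_pow, map_eq_one_iff _ (MulAut.conj g).injective] at h
  · intro P hP x hxP y hyP hx hy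
    obtain ⟨g, hg⟩ := exists_conj_le S hP
    have hxA := (mem_classOf_iff hsc (hg x hxP)).1 (classOf_conj g hx)
    have hyA := (mem_classOf_iff hsc (hg y hyP)).1 (classOf_conj g hy)
    refine ⟨g, ?_⟩
    rw [show g * (x * y) * g⁻¹ = g * x * g⁻¹ * (g * y * g⁻¹) by group]
    exact A.mul_mem hxA hyA

variable (S : Sylow 2 G) {S₁ S₂ : Subgroup G}
  (h₁ : IsStronglyClosed S₁ (S : Subgroup G)) (h₂ : IsStronglyClosed S₂ (S : Subgroup G))
  (hc : ∀ a ∈ S₁, ∀ b ∈ S₂, a * b = b * a) (hd : S₁ ⊓ S₂ = ⊥)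
include h₁ h₂ hc hd

theorem closedPair_classOf : ClosedPair (classOf S₁) (classOf S₂) where
  left := closed_classOf S h₁
  right := closed_classOf S h₂
  comm P hP x hxP y hyP hx hy := by
    obtain ⟨g, hg⟩ := exists_conj_le S hP
    refine (MulAut.conj g).injective ?_
    rw [map_mul, map_mul]
    exact hc _ ((mem_classOf_iff h₁ (hg x hxP)).1 (classOf_conj g hx)) _
      ((mem_classOf_iff h₂ (hg y hyP)).1 (classOf_conj g hy))
  disj x hx hy := by
    obtain ⟨g, hg⟩ := hx
    have h := (mem_classOf_iff h₂ (h₁.1 hg)).1 (classOf_conj g hy)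
    have h' : MulAut.conj g x = 1 := mem_bot.1 (hd ▸ ⟨hg, h⟩)
    exact (map_eq_one_iff _ (MulAut.conj g).injective).1 h'

/-- The normal closures commute elementwise. -/
theorem commute_normalClosure (hO : pPrimeCore 2 G = ⊥) :
    normalClosure (S₁ : Set G) ≤ centralizer (normalClosure (S₂ : Set G) : Set G) := by
  have h := commute_of_core_eq_bot hO (closedPair_classOf S h₁ h₂ hc hd)
  have key : ∀ (A : Subgroup G), ∀ x ∈ Group.conjugatesOfSet (A : Set G), x ∈ classOf A := by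
    intro A x hx
    obtain ⟨a, ha, hconj⟩ := Group.mem_conjugatesOfSet_iff.1 hx
    obtain ⟨g, rfl⟩ := isConj_iff.1 hconj
    exact classOf_conj g (mem_classOf_of_mem ha)
  rw [Subgroup.normalClosure, Subgroup.normalClosure, centralizer_closure, closure_le]
  intro x hx
  exact mem_centralizer_iff.2 fun y hy => (h x (key S₁ x hx) y (key S₂ y hy)).symm

/-- `S ∩ N₁ = S₁` when `S = S₁ S₂`. -/
theorem sylow_inf_normalClosure (hO : pPrimeCore 2 G = ⊥) (hsup : S₁ ⊔ S₂ = (S : Subgroup G)) :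
    (S : Subgroup G) ⊓ normalClosure (S₁ : Set G) = S₁ := by
  haveI : Fact (Nat.Prime 2) := ⟨Nat.prime_two⟩
  set N := normalClosure (S₁ : Set G) with hN
  have hS₁N : S₁ ≤ N := subset_normalClosure
  have hcent := commute_normalClosure S h₁ h₂ hc hd hO
  refine le_antisymm ?_ (le_inf h₁.1 hS₁N)
  have hSN : (S : Subgroup G) ≤ normalizer (N : Set G) := by
    rw [normalizer_eq_top]; exact le_top
  obtain ⟨P, hP⟩ := PReduced.exists_sylow_inf S hSN
  have hnorm : S₂ ≤ normalizer (S₁ : Set G) := fun b hb => centralizer_le_normalizer _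
    (mem_centralizer_iff.2 fun a ha => hc a ha b hb)
  -- the focal subgroup of `S ∩ N` in `N` lies in `S₁`
  have hfoc : ((P : Subgroup ↥N).focalSubgroup).map N.subtype ≤ S₁ := by
    rw [focalSubgroup_def, MonoidHom.map_closure, closure_le]
    rintro _ ⟨_, ⟨hwP, x, hxP, u, rfl⟩, rfl⟩
    rw [hP, mem_subgroupOf] at hwP hxP
    obtain ⟨s, hs, c, hcS, e⟩ := (Coprime.mem_sup_iff hnorm).1 (hsup ▸ hxP : (x : G) ∈ S₁ ⊔ S₂)
    have hcN : c ∈ normalClosure (S₂ : Set G) := subset_normalClosure hcS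
    have hcu : (u : G) * c⁻¹ = c⁻¹ * u :=
      (mem_centralizer_iff.1 (hcent u.2) _ (inv_mem hcN)).symm
    have hv : N.subtype ⁅x, u⁆ = s * ((u : G) * s⁻¹ * (u : G)⁻¹) := by
      rw [map_commutatorElement, commutatorElement_def, coe_subtype, ← e]
      calc s * c * (u : G) * (s * c)⁻¹ * (u : G)⁻¹
          = s * c * ((u : G) * c⁻¹) * s⁻¹ * (u : G)⁻¹ := by group
        _ = _ := by rw [hcu]; group
    show N.subtype ⁅x, u⁆ ∈ S₁
    have hwS : N.subtype ⁅x, u⁆ ∈ (S : Subgroup G) := hwP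
    rw [hv] at hwS ⊢
    have hu : (u : G) * s⁻¹ * (u : G)⁻¹ ∈ (S : Subgroup G) := by
      have := mul_mem (inv_mem (h₁.1 hs)) hwS
      rwa [inv_mul_cancel_left] at this
    exact mul_mem hs (h₁.2 _ (inv_mem hs) u hu)
  -- `D = N' S₁` is normal, hence contains `N`
  set D : Subgroup G := (commutator ↥N).map N.subtype ⊔ S₁ with hD
  have hDN : D ≤ N := sup_le (map_subtype_le _) hS₁N
  have hND : N ≤ normalizer (D : Set G) := by
    intro n hn
    refine Coprime.mem_normalizer_of_forall fun d hd => ?_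
    have h1 : n * d * n⁻¹ * d⁻¹ ∈ D :=
      mem_sup_left ⟨⁅(⟨n, hn⟩ : N), ⟨d, hDN hd⟩⁆,
        commutator_mem_commutator (mem_top _) (mem_top _), rfl⟩
    have := mul_mem h1 hd
    rwa [inv_mul_cancel_right] at this
  have hNle : N ≤ D := by
    refine (closure_le _).2 fun y hy => ?_
    obtain ⟨a, ha, hconj⟩ := Group.mem_conjugatesOfSet_iff.1 hy
    obtain ⟨g, rfl⟩ := isConj_iff.1 hconj
    have htop := Sylow.normalizer_sup_eq_top P
    have hg : g ∈ N ⊔ normalizer ((P : Subgroup ↥N).map N.subtype : Set G) := by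
      rw [sup_comm]; exact htop.ge (mem_top g)
    rw [← SetLike.mem_coe, Subgroup.normal_mul] at hg
    obtain ⟨n, hn, m, hm, rfl⟩ := hg
    have hmap : (P : Subgroup ↥N).map N.subtype = (S : Subgroup G) ⊓ N := by
      rw [hP, subgroupOf_map_subtype]
    have hma : m * a * m⁻¹ ∈ S₁ := by
      have haT : a ∈ (P : Subgroup ↥N).map N.subtype := by rw [hmap]; exact ⟨h₁.1 ha, hS₁N ha⟩
      have := (mem_normalizer_iff.1 hm a).1 haT
      rw [hmap] at this
      exact h₁.2 a ha m this.1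
    rw [show n * m * a * (n * m)⁻¹ = n * (m * a * m⁻¹) * n⁻¹ by group]
    exact (mem_normalizer_iff.1 (hND hn) _).1 (mem_sup_right hma)
  rintro x ⟨hxS, hxN⟩
  have hnorm₁ : S₁ ≤ normalizer ((commutator ↥N).map N.subtype : Set G) :=
    hS₁N.trans (le_normalizer.trans (Cores.normalizer_le_normalizer_map (commutator ↥N)))
  obtain ⟨d, hdm, s, hs, rfl⟩ := (Coprime.mem_sup_iff hnorm₁).1 (hNle hxN)
  obtain ⟨d', hd', rfl⟩ := hdm
  refine mul_mem (hfoc ⟨d', ?_, rfl⟩) hs
  rw [← commutator_inf_eq_focalSubgroup P]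
  refine ⟨hd', ?_⟩
  rw [hP]
  show (d' : G) ∈ (S : Subgroup G)
  have := (S : Subgroup G).mul_mem hxS ((S : Subgroup G).inv_mem (h₁.1 hs))
  rwa [mul_inv_cancel_right] at this

/-- The normal closures meet trivially. -/
theorem normalClosure_inf (hO : pPrimeCore 2 G = ⊥) (hsup : S₁ ⊔ S₂ = (S : Subgroup G)) :
    normalClosure (S₁ : Set G) ⊓ normalClosure (S₂ : Set G) = ⊥ := by
  haveI : Fact (Nat.Prime 2) := ⟨Nat.prime_two⟩
  set K := normalClosure (S₁ : Set G) ⊓ normalClosure (S₂ : Set G) with hK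
  haveI hKn : K.Normal := Subgroup.normal_inf_normal _ _
  have hSK : (S : Subgroup G) ⊓ K = ⊥ := by
    refine le_bot_iff.1 (hd ▸ le_inf ?_ ?_)
    · exact (inf_le_inf_left _ inf_le_left).trans
        (sylow_inf_normalClosure S h₁ h₂ hc hd hO hsup).le
    · exact (inf_le_inf_left _ inf_le_right).trans
        (sylow_inf_normalClosure S h₂ h₁ (fun b hb a ha => (hc a ha b hb).symm)
          (inf_comm S₂ S₁ ▸ hd) hO (sup_comm S₂ S₁ ▸ hsup)).le
  have hcop := PReduced.relIndex_coprime_of_normalized S (C := K)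
    (by rw [normalizer_eq_top]; exact le_top)
  rw [← inf_relIndex_right, hSK, relIndex_bot_left] at hcop
  have h := Cores.le_pPrimeCore hKn hcop
  rw [hO] at h
  exact le_bot_iff.1 h

end Cfsg.Agent.ClosedPair
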