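import Cfsg.Agent.EqLemmas
import Cfsg.Agent.Lib.Cores.Basic
import Cfsg.Agent.Lib.Coprime.Basic

/-!
# Pairs of commuting strongly closed 2-subgroups, as pairs of normal sets (owner: helper65)

* `Closed T` : a conjugation invariant set of 2-elements meeting every 2-subgroup in a subgroup
* `ClosedPair T₁ T₂` : two such sets whose members in a common 2-subgroup commute, meeting in `1`
* `Conc T₁ T₂` : the conclusion of the product theorem, `[T₁, T₂] ⊆ O(G)`
* `exists_conj_mem_sylow`, `exists_sylow_ge_image` : lifting to Sylow subgroups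
* heredity: `preimage`, `image`
-/

set_option autoImplicit false

namespace Cfsg.Agent.ClosedPair

open scoped commutatorElement Pointwise
open Cfsg

variable {G : Type*} [Group G]

/-- A conjugation invariant set of 2-elements meeting every 2-subgroup in a subgroup. -/
structure Closed (T : Set G) : Prop where
  one : (1 : G) ∈ T
  conj : ∀ g x : G, x ∈ T → g * x * g⁻¹ ∈ T
  pow : ∀ x ∈ T, ∃ k : ℕ, x ^ 2 ^ k = 1
  mul : ∀ P : Subgroup G, IsPGroup 2 P → ∀ x ∈ P, ∀ y ∈ P, x ∈ T → y ∈ T → x * y ∈ T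

/-- Two closed sets commuting inside 2-subgroups and meeting in `1`. -/
structure ClosedPair (T₁ T₂ : Set G) : Prop where
  left : Closed T₁
  right : Closed T₂
  comm : ∀ P : Subgroup G, IsPGroup 2 P → ∀ x ∈ P, ∀ y ∈ P, x ∈ T₁ → y ∈ T₂ → x * y = y * x
  disj : ∀ x ∈ T₁, x ∈ T₂ → x = 1

/-- The conclusion of the product theorem. -/
def Conc (T₁ T₂ : Set G) : Prop :=
  ∀ x ∈ T₁, ∀ y ∈ T₂, ⁅x, y⁆ ∈ pPrimeCore 2 G

theorem ClosedPair.symm {T₁ T₂ : Set G} (h : ClosedPair T₁ T₂) : ClosedPair T₂ T₁ :=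
  ⟨h.right, h.left, fun P hP x hx y hy h1 h2 => (h.comm P hP y hy x hx h2 h1).symm,
    fun x h1 h2 => h.disj x h2 h1⟩

theorem Conc.symm {T₁ T₂ : Set G} (h : Conc T₁ T₂) : Conc T₂ T₁ := fun x hx y hy => by
  rw [← commutatorElement_inv y x]
  exact (pPrimeCore 2 G).inv_mem (h y hy x hx)

variable [Finite G]

namespace Closed

variable {T : Set G} (h : Closed T)
include h

theorem conj_iff (g : G) {x : G} : g * x * g⁻¹ ∈ T ↔ x ∈ T :=
  ⟨fun hx => by simpa [mul_assoc] using h.conj g⁻¹ _ hx, h.conj g x⟩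

theorem isPGroup_zpowers {x : G} (hx : x ∈ T) : IsPGroup 2 (Subgroup.zpowers x) := by
  obtain ⟨k, hk⟩ := h.pow x hx
  refine fun ⟨y, hy⟩ => ⟨k, Subtype.ext ?_⟩
  obtain ⟨i, rfl⟩ := Subgroup.mem_zpowers_iff.1 hy
  show (x ^ i) ^ 2 ^ k = 1
  rw [← zpow_natCast, ← zpow_mul, mul_comm, zpow_mul, zpow_natCast, hk, one_zpow]

theorem inv_mem {x : G} (hx : x ∈ T) : x⁻¹ ∈ T := by
  have hP := h.isPGroup_zpowers hx
  have hpow : ∀ n : ℕ, x ^ n ∈ T := fun n => by
    induction n with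
    | zero => rw [pow_zero]; exact h.one
    | succ n ih =>
      rw [pow_succ]
      exact h.mul _ hP _ (Subgroup.pow_mem _ (Subgroup.mem_zpowers x) n) _ (Subgroup.mem_zpowers x)
        ih hx
  obtain ⟨k, hk⟩ := h.pow x hx
  have e : x⁻¹ = x ^ (2 ^ k - 1) := by
    refine inv_eq_of_mul_eq_one_right ?_
    rw [← pow_succ', Nat.sub_add_cancel (Nat.one_le_two_pow), hk]
  exact e ▸ hpow _

/-- The members of `T` in a 2-subgroup. -/
def sub (h : Closed T) (P : Subgroup G) (hP : IsPGroup 2 P) : Subgroup G where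
  carrier := {x | x ∈ P ∧ x ∈ T}
  one_mem' := ⟨one_mem _, h.one⟩
  mul_mem' := fun {x y} hx hy => ⟨P.mul_mem hx.1 hy.1, h.mul P hP x hx.1 y hy.1 hx.2 hy.2⟩
  inv_mem' := fun {x} hx => ⟨P.inv_mem hx.1, h.inv_mem hx.2⟩

theorem mem_sub {P : Subgroup G} (hP : IsPGroup 2 P) {x : G} :
    x ∈ h.sub P hP ↔ x ∈ P ∧ x ∈ T := Iff.rfl

theorem normal_closure : (Subgroup.closure T).Normal := by
  refine ⟨fun n hn g => ?_⟩
  have hle : Subgroup.closure T ≤ (Subgroup.closure T).comap (MulAut.conj g).toMonoidHom :=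
    (Subgroup.closure_le _).2 fun x hx => Subgroup.subset_closure (h.conj g x hx)
  exact hle hn

end Closed

/-- A 2-element of `P N` is conjugate into `P` by an element of `N`. -/
theorem exists_conj_mem_sylow (P : Sylow 2 G) (N : Subgroup G) [N.Normal] {x : G}
    (hx2 : IsPGroup 2 (Subgroup.zpowers x)) (hx : x ∈ (P : Subgroup G) ⊔ N) :
    ∃ n ∈ N, n * x * n⁻¹ ∈ (P : Subgroup G) := by
  set K := (P : Subgroup G) ⊔ N with hK
  obtain ⟨Q, hQ⟩ := (hx2.comap_of_injective K.subtype K.subtype_injective).exists_le_sylow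
  obtain ⟨k, hk⟩ := MulAction.exists_smul_eq K Q (P.subtype le_sup_left)
  have h1 : k * ⟨x, hx⟩ * k⁻¹ ∈ (P.subtype (le_sup_left : (P : Subgroup G) ≤ K) : Subgroup K) := by
    rw [← hk, Sylow.coe_subgroup_smul, Coprime.mem_conj]
    have e : k⁻¹ * (k * ⟨x, hx⟩ * k⁻¹) * k = ⟨x, hx⟩ := by group
    rw [e]
    exact hQ (Subgroup.mem_zpowers x)
  have h2 : (k : G) * x * (k : G)⁻¹ ∈ (P : Subgroup G) := h1
  obtain ⟨p, hp, n, hn, e⟩ := Subgroup.mem_sup_of_normal_right.1 k.2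
  refine ⟨n, hn, ?_⟩
  rw [← e] at h2
  have := (P : Subgroup G).mul_mem ((P : Subgroup G).mul_mem ((P : Subgroup G).inv_mem hp) h2) hp
  simpa [mul_assoc] using this

/-- Every 2-subgroup of a quotient lies in the image of a Sylow 2-subgroup. -/
theorem exists_sylow_ge_image (N : Subgroup G) [N.Normal] (Pb : Subgroup (G ⧸ N))
    (hPb : IsPGroup 2 Pb) :
    ∃ P : Sylow 2 G, Pb ≤ (P : Subgroup G).map (QuotientGroup.mk' N) := by
  haveI : Fact (Nat.Prime 2) := ⟨Nat.prime_two⟩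
  obtain ⟨S, hS⟩ := hPb.exists_le_sylow
  obtain ⟨P, rfl⟩ := Sylow.mapSurjective_surjective (QuotientGroup.mk'_surjective N) 2 S
  exact ⟨P, hS⟩

/-- A member of the image of `T` in the image of `P` comes from a member of `T` in `P`. -/
theorem Closed.exists_lift {T : Set G} (h : Closed T) (N : Subgroup G) [N.Normal] (P : Sylow 2 G)
    {x : G} (hx : x ∈ T) (hxP : QuotientGroup.mk' N x ∈ (P : Subgroup G).map (QuotientGroup.mk' N)) :
    ∃ n ∈ N, n * x * n⁻¹ ∈ (P : Subgroup G) ∧ n * x * n⁻¹ ∈ T ∧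
      QuotientGroup.mk' N (n * x * n⁻¹) = QuotientGroup.mk' N x := by
  obtain ⟨p, hp, e⟩ := hxP
  have hxK : x ∈ (P : Subgroup G) ⊔ N := by
    have : p⁻¹ * x ∈ N := by
      rw [← QuotientGroup.eq_one_iff (N := N)]
      show QuotientGroup.mk' N (p⁻¹ * x) = 1
      rw [map_mul, map_inv, e, inv_mul_cancel]
    simpa using Subgroup.mul_mem_sup hp this
  obtain ⟨n, hn, hnP⟩ := exists_conj_mem_sylow P N (h.isPGroup_zpowers hx) hxK
  refine ⟨n, hn, hnP, h.conj n x hx, ?_⟩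
  have h1 : QuotientGroup.mk' N n = 1 := (QuotientGroup.eq_one_iff n).2 hn
  rw [map_mul, map_mul, map_inv, h1]
  simp

theorem Closed.preimage {T : Set G} (h : Closed T) {H : Type*} [Group H] {f : H →* G}
    (hf : Function.Injective f) : Closed (f ⁻¹' T) where
  one := by simpa using h.one
  conj g x hx := by simpa using h.conj (f g) (f x) hx
  pow x hx := by
    obtain ⟨k, hk⟩ := h.pow (f x) hx
    exact ⟨k, hf (by rw [map_pow, hk, map_one])⟩
  mul P hP x hx y hy h1 h2 := by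
    have := h.mul (P.map f) (hP.map f) _ ⟨x, hx, rfl⟩ _ ⟨y, hy, rfl⟩ h1 h2
    simpa using this

theorem ClosedPair.preimage {T₁ T₂ : Set G} (h : ClosedPair T₁ T₂) {H : Type*} [Group H]
    {f : H →* G} (hf : Function.Injective f) : ClosedPair (f ⁻¹' T₁) (f ⁻¹' T₂) where
  left := h.left.preimage hf
  right := h.right.preimage hf
  comm P hP x hx y hy h1 h2 := hf (by
    have := h.comm (P.map f) (hP.map f) _ ⟨x, hx, rfl⟩ _ ⟨y, hy, rfl⟩ h1 h2
    simpa using this)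
  disj x h1 h2 := hf (by rw [map_one]; exact h.disj _ h1 h2)

theorem Closed.image {T : Set G} (h : Closed T) (N : Subgroup G) [N.Normal] :
    Closed (QuotientGroup.mk' N '' T) where
  one := ⟨1, h.one, map_one _⟩
  conj g x hx := by
    obtain ⟨a, ha, rfl⟩ := hx
    obtain ⟨g, rfl⟩ := QuotientGroup.mk'_surjective N g
    exact ⟨g * a * g⁻¹, h.conj g a ha, by simp⟩
  pow x hx := by
    obtain ⟨a, ha, rfl⟩ := hx
    obtain ⟨k, hk⟩ := h.pow a ha
    exact ⟨k, by rw [← map_pow, hk, map_one]⟩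
  mul Pb hPb x hx y hy h1 h2 := by
    obtain ⟨a, ha, rfl⟩ := h1
    obtain ⟨b, hb, rfl⟩ := h2
    obtain ⟨P, hP⟩ := exists_sylow_ge_image N Pb hPb
    obtain ⟨n, -, hnP, hnT, en⟩ := h.exists_lift N P ha (hP hx)
    obtain ⟨m, -, hmP, hmT, em⟩ := h.exists_lift N P hb (hP hy)
    exact ⟨_, h.mul _ P.isPGroup' _ hnP _ hmP hnT hmT, by rw [map_mul, en, em]⟩

theorem ClosedPair.image {T₁ T₂ : Set G} (h : ClosedPair T₁ T₂) (N : Subgroup G) [N.Normal]
    (hdisj : ∀ x ∈ T₁, ∀ y ∈ T₂, x⁻¹ * y ∈ N → x ∈ N) :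
    ClosedPair (QuotientGroup.mk' N '' T₁) (QuotientGroup.mk' N '' T₂) where
  left := h.left.image N
  right := h.right.image N
  comm Pb hPb x hx y hy h1 h2 := by
    obtain ⟨a, ha, rfl⟩ := h1
    obtain ⟨b, hb, rfl⟩ := h2
    obtain ⟨P, hP⟩ := exists_sylow_ge_image N Pb hPb
    obtain ⟨n, -, hnP, hnT, en⟩ := h.left.exists_lift N P ha (hP hx)
    obtain ⟨m, -, hmP, hmT, em⟩ := h.right.exists_lift N P hb (hP hy)
    rw [← en, ← em, ← map_mul, ← map_mul, h.comm _ P.isPGroup' _ hnP _ hmP hnT hmT]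
  disj x h1 h2 := by
    obtain ⟨a, ha, rfl⟩ := h1
    obtain ⟨b, hb, e⟩ := h2
    exact (QuotientGroup.eq_one_iff a).2 (hdisj a ha b hb (QuotientGroup.eq.1 e.symm))

end Cfsg.Agent.ClosedPair
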