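import Cfsg.Agent.EqLemmas
import Cfsg.Agent.Lib.Coprime.Invariant
import Cfsg.Agent.Lib.Coprime.Generation
import Cfsg.Agent.Lib.OddOrderTheorem.Basic
import Cfsg.Agent.Lib.Components.Centralize

/-!
# Fixed points of a four-group in `[R, E]` (owner: helper65)

* `IsFour E` : `E` is a four-group
* `fixed_commutator_le` : for a four-group `E` acting on `R` of odd order, the fixed points of `E`
  in `[R, E]` lie in the join of the fixed points in the `[C_R(d), E]`
-/

set_option autoImplicit false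

namespace Cfsg.Agent.ClosedPair

open scoped commutatorElement Pointwise
open Subgroup

universe u

variable {G : Type u} [Group G]

/-- `E` is a four-group. -/
structure IsFour (E : Subgroup G) : Prop where
  comm : ∀ a ∈ E, ∀ b ∈ E, a * b = b * a
  sq : ∀ a ∈ E, a * a = 1
  card : Nat.card E = 4

/-- The join of the fixed points of `E` in the `[C_R(d), E]`. -/
def fixJoin (R E : Subgroup G) : Subgroup G :=
  ⨆ d : {d : G // d ∈ E ∧ d ≠ 1}, ⁅R ⊓ centralizer {(d : G)}, E⁆ ⊓ centralizer (E : Set G)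

theorem le_fixJoin (R : Subgroup G) {E : Subgroup G} {d : G} (hd : d ∈ E) (hd1 : d ≠ 1) :
    ⁅R ⊓ centralizer {d}, E⁆ ⊓ centralizer (E : Set G) ≤ fixJoin R E :=
  le_iSup (fun d : {d : G // d ∈ E ∧ d ≠ 1} =>
    ⁅R ⊓ centralizer {(d : G)}, E⁆ ⊓ centralizer (E : Set G)) ⟨d, hd, hd1⟩

theorem fixJoin_mono {R R' E : Subgroup G} (h : R ≤ R') : fixJoin R E ≤ fixJoin R' E :=
  iSup_le fun d => le_trans (inf_le_inf_right _ (commutator_mono (inf_le_inf_right _ h) le_rfl))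
    (le_fixJoin R' d.2.1 d.2.2)

variable [Finite G]

namespace IsFour

variable {E : Subgroup G} (hE : IsFour E)
include hE

theorem exists_ne {d : G} (hd : d ∈ E) (hd1 : d ≠ 1) : ∃ a ∈ E, a ≠ 1 ∧ a ≠ d := by
  by_contra h
  push Not at h
  have hle : E ≤ zpowers d := fun a ha => by
    by_cases ha1 : a = 1
    · exact ha1 ▸ one_mem _
    · exact h a ha ha1 ▸ mem_zpowers d
  have h1 := Subgroup.card_le_of_le hle
  rw [hE.card, Nat.card_zpowers, orderOf_eq_prime (p := 2) (by rw [pow_two]; exact hE.sq d hd) hd1] at h1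
  omega

theorem eq_cases {t u : G} (ht : t ∈ E) (hu : u ∈ E) (ht1 : t ≠ 1) (hu1 : u ≠ 1) (hne : t ≠ u)
    {e : G} (he : e ∈ E) : e = 1 ∨ e = t ∨ e = u ∨ e = t * u := by
  classical
  by_contra h
  push Not at h
  haveI := Fintype.ofFinite G
  have htu : t * u ≠ 1 := fun h1 => hne (mul_right_cancel (h1.trans (hE.sq u hu).symm))
  have h1 : t ≠ t * u := fun h1 => hu1 (left_eq_mul.1 h1)
  have h2 : u ≠ t * u := fun h1 => ht1 (right_eq_mul.1 h1)
  have hs : ({1, t, u, t * u, e} : Finset G).card = 5 := by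
    rw [Finset.card_insert_of_notMem (by simp [ht1.symm, hu1.symm, htu.symm, h.1.symm]),
      Finset.card_insert_of_notMem (by simp [hne, h1, h.2.1.symm]),
      Finset.card_insert_of_notMem (by simp [h2, h.2.2.1.symm]),
      Finset.card_insert_of_notMem (by simp [h.2.2.2.symm]), Finset.card_singleton]
  have h4 : ({1, t, u, t * u, e} : Finset G).card ≤ Nat.card E := by
    rw [← Nat.card_eq_finsetCard]
    refine Nat.card_mono (Set.toFinite _) ?_
    intro x hx
    simp only [Finset.coe_insert, Finset.coe_singleton, Set.mem_insert_iff, Set.mem_singleton_iff] at hx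
    rcases hx with rfl | rfl | rfl | rfl | rfl
    exacts [E.one_mem, ht, hu, E.mul_mem ht hu, he]
  rw [hs, hE.card] at h4
  omega

theorem not_cyclic : ¬ IsCyclic E := fun h => by
  obtain ⟨g, hg⟩ := IsCyclic.exists_ofOrder_eq_natCard (α := E)
  have h1 : g * g = 1 := Subtype.ext (hE.sq g g.2)
  have h2 : orderOf g ∣ 2 := orderOf_dvd_of_pow_eq_one (by rw [pow_two]; exact h1)
  rw [hg, hE.card] at h2
  exact absurd (Nat.le_of_dvd two_pos h2) (by omega)

theorem coprime {R : Subgroup G} (hR : Odd (Nat.card R)) :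
    (Nat.card E).Coprime (Nat.card R) := by
  rw [hE.card, show (4 : ℕ) = 2 ^ 2 from rfl]
  exact Nat.Coprime.pow_left 2 (Nat.coprime_two_left.2 hR)

end IsFour

/-- The norm of `z` for the action of `E = {1, t, u, t u}`. -/
def norm4 (t u z : G) : G :=
  z * (t * z * t⁻¹) * (u * z * u⁻¹) * (t * u * z * (t * u)⁻¹)

variable {E R N : Subgroup G}

/-- The norm of an element of an abelian invariant `N` in terms of any nontrivial element. -/
theorem norm4_eq (hE : IsFour E) (hEN : E ≤ normalizer (N : Set G))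
    (hN : ∀ a ∈ N, ∀ b ∈ N, a * b = b * a) {t u : G} (ht : t ∈ E) (hu : u ∈ E) (ht1 : t ≠ 1)
    (hu1 : u ≠ 1) (hne : t ≠ u) {z : G} (hz : z ∈ N) {d : G} (hd : d ∈ E) (hd1 : d ≠ 1) :
    ∃ a ∈ E, norm4 t u z = z * (d * z * d⁻¹) * (a * (z * (d * z * d⁻¹)) * a⁻¹) := by
  have hc : ∀ {e : G}, e ∈ E → e * z * e⁻¹ ∈ N := fun he => (mem_normalizer_iff.1 (hEN he) z).1 hz
  have swap : ∀ {a b c : G}, b ∈ N → c ∈ N → a * b * c = a * c * b := fun hb hc => by
    rw [mul_assoc, mul_assoc, hN _ hb _ hc]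
  have htt := hE.sq t ht
  rcases hE.eq_cases ht hu ht1 hu1 hne hd with h | h | h | h
  · exact absurd h hd1
  · refine ⟨u, hu, ?_⟩
    rw [h, norm4, hE.comm t ht u hu]
    group
  · refine ⟨t, ht, ?_⟩
    have e1 : t * (z * (u * z * u⁻¹)) * t⁻¹ = t * z * t⁻¹ * (t * u * z * (t * u)⁻¹) := by group
    rw [h, norm4, e1]
    exact (congrArg (· * (t * u * z * (t * u)⁻¹)) (swap (hc ht) (hc hu))).trans (mul_assoc _ _ _)
  · refine ⟨t, ht, ?_⟩
    have e2 : t * (t * u * z * (t * u)⁻¹) * t⁻¹ = u * z * u⁻¹ := by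
      calc t * (t * u * z * (t * u)⁻¹) * t⁻¹ = (t * t) * u * z * u⁻¹ * (t * t)⁻¹ := by group
        _ = _ := by rw [htt]; group
    have e1 : t * (z * (t * u * z * (t * u)⁻¹)) * t⁻¹ = t * z * t⁻¹ * (u * z * u⁻¹) := by
      rw [← e2]; group
    rw [h, norm4, e1]
    exact ((swap (hc hu) (hc (E.mul_mem ht hu))).trans
      (congrArg (· * (u * z * u⁻¹)) (swap (hc ht) (hc (E.mul_mem ht hu))))).trans (mul_assoc _ _ _)

theorem norm4_mul (hE : IsFour E) (hEN : E ≤ normalizer (N : Set G))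
    (hN : ∀ a ∈ N, ∀ b ∈ N, a * b = b * a) {t u : G} (ht : t ∈ E) (hu : u ∈ E) {z w : G}
    (hz : z ∈ N) (hw : w ∈ N) : norm4 t u (z * w) = norm4 t u z * norm4 t u w := by
  have hc : ∀ {e x : G}, e ∈ E → x ∈ N → e * x * e⁻¹ ∈ N := fun he hx =>
    (mem_normalizer_iff.1 (hEN he) _).1 hx
  letI : CommGroup N :=
    { (inferInstance : Group N) with mul_comm := fun a b => Subtype.ext (hN a a.2 b b.2) }
  have key : (⟨z, hz⟩ : N) * ⟨w, hw⟩ * (⟨_, hc ht hz⟩ * ⟨_, hc ht hw⟩) *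
      (⟨_, hc hu hz⟩ * ⟨_, hc hu hw⟩) *
      (⟨_, hc (E.mul_mem ht hu) hz⟩ * ⟨_, hc (E.mul_mem ht hu) hw⟩) =
      ⟨z, hz⟩ * ⟨_, hc ht hz⟩ * ⟨_, hc hu hz⟩ * ⟨_, hc (E.mul_mem ht hu) hz⟩ *
      (⟨w, hw⟩ * ⟨_, hc ht hw⟩ * ⟨_, hc hu hw⟩ * ⟨_, hc (E.mul_mem ht hu) hw⟩) := by ac_rfl
  have key' := congrArg Subtype.val key
  simp only [Subgroup.coe_mul] at key'
  simp only [norm4]
  rw [show t * (z * w) * t⁻¹ = t * z * t⁻¹ * (t * w * t⁻¹) by group,
    show u * (z * w) * u⁻¹ = u * z * u⁻¹ * (u * w * u⁻¹) by group,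
    show t * u * (z * w) * (t * u)⁻¹ = t * u * z * (t * u)⁻¹ * (t * u * w * (t * u)⁻¹) by group]
  exact key'

/-- An abelian subgroup whose norms lie in `W` has its fixed points in `W`. -/
theorem fixed_le_of_norm4 (hodd : Odd (Nat.card N)) {W : Subgroup G}
    {t u : G} (ht : t ∈ E) (hu : u ∈ E)
    (h : ∀ z ∈ N, norm4 t u z ∈ W) : N ⊓ centralizer (E : Set G) ≤ W := by
  rintro n ⟨hn, hnE⟩
  have hfix : ∀ e ∈ E, e * n * e⁻¹ = n := fun e he => mul_inv_eq_iff_eq_mul.2 (hnE e he)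
  have h1 := h n hn
  rw [norm4, hfix t ht, hfix u hu, hfix _ (E.mul_mem ht hu)] at h1
  have h4 : n ^ 4 ∈ W := by simpa [pow_succ, mul_assoc] using h1
  have hcop : Nat.Coprime 4 (orderOf n) := by
    refine Nat.Coprime.coprime_dvd_right (Subgroup.orderOf_dvd_natCard N hn) ?_
    exact Nat.Coprime.pow_left 2 (Nat.coprime_two_left.2 hodd)
  obtain ⟨m, hm⟩ := exists_pow_eq_self_of_coprime hcop
  rw [← hm]
  exact pow_mem h4 m

/-- The elements of `N` whose norm lies in `W`. -/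
def normIn (hE : IsFour E) (hEN : E ≤ normalizer (N : Set G))
    (hN : ∀ a ∈ N, ∀ b ∈ N, a * b = b * a) {t u : G} (ht : t ∈ E) (hu : u ∈ E) (W : Subgroup G) :
    Subgroup G :=
  Subgroup.ofDiv {z | z ∈ N ∧ norm4 t u z ∈ W} ⟨1, N.one_mem, by simp [norm4]⟩ fun x hx y hy => by
    refine ⟨N.mul_mem hx.1 (N.inv_mem hy.1), ?_⟩
    rw [norm4_mul hE hEN hN ht hu hx.1 (N.inv_mem hy.1)]
    refine W.mul_mem hx.2 ?_
    have h1 := norm4_mul hE hEN hN ht hu (N.inv_mem hy.1) hy.1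
    rw [inv_mul_cancel, show norm4 t u (1 : G) = 1 by simp [norm4]] at h1
    rw [eq_inv_of_mul_eq_one_left h1.symm]
    exact W.inv_mem hy.2

/-- The norm is fixed by `E`. -/
theorem norm4_fixed (hE : IsFour E) (hEN : E ≤ normalizer (N : Set G))
    (hN : ∀ a ∈ N, ∀ b ∈ N, a * b = b * a) {t u : G} (ht : t ∈ E) (hu : u ∈ E) (ht1 : t ≠ 1)
    (hu1 : u ≠ 1) (hne : t ≠ u) {z : G} (hz : z ∈ N) {f : G} (hf : f ∈ E) :
    f * norm4 t u z * f⁻¹ = norm4 t u z := by
  by_cases hf1 : f = 1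
  · simp [hf1]
  obtain ⟨a', ha', e'⟩ := norm4_eq hE hEN hN ht hu ht1 hu1 hne hz hf hf1
  have hf2 := hE.sq f hf
  have hfa := hE.comm f hf a' ha'
  have hfz : f * z * f⁻¹ ∈ N := (mem_normalizer_iff.1 (hEN hf) z).1 hz
  have hw' : f * (z * (f * z * f⁻¹)) * f⁻¹ = z * (f * z * f⁻¹) := by
    calc f * (z * (f * z * f⁻¹)) * f⁻¹ = (f * z * f⁻¹) * ((f * f) * z * (f * f)⁻¹) := by group
      _ = (f * z * f⁻¹) * z := by rw [hf2]; group
      _ = _ := hN _ hfz _ hz
  rw [e']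
  generalize z * (f * z * f⁻¹) = w at hw' ⊢
  calc f * (w * (a' * w * a'⁻¹)) * f⁻¹ = (f * w * f⁻¹) * ((f * a') * w * (f * a')⁻¹) := by group
    _ = w * ((a' * f) * w * (a' * f)⁻¹) := by rw [hw', hfa]
    _ = w * (a' * (f * w * f⁻¹) * a'⁻¹) := by group
    _ = _ := by rw [hw']

/-- The norm of a commutator with an element of some `[C_R(d), E]`. -/
theorem norm4_commutator_mem (hE : IsFour E) (hER : E ≤ normalizer (R : Set G))
    (hEN : E ≤ normalizer (N : Set G))
    (hN : ∀ a ∈ N, ∀ b ∈ N, a * b = b * a) {t u : G} (ht : t ∈ E) (hu : u ∈ E) (ht1 : t ≠ 1)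
    (hu1 : u ≠ 1) (hne : t ≠ u) {d : G} (hd : d ∈ E) (hd1 : d ≠ 1) {b c y : G}
    (hy : y ∈ ⁅R ⊓ centralizer {d}, E⁆) (hc : c ∈ R ⊓ centralizer {d}) (hz : ⁅b, y⁆ ∈ N)
    (hcy : ⁅b, y⁆ * ⁅d * b * d⁻¹, y⁆ = ⁅c, y⁆) :
    norm4 t u ⁅b, y⁆ ∈ fixJoin R E := by
  set S := ⁅R ⊓ centralizer {d}, E⁆ with hS
  have hCd : E ≤ normalizer ((R ⊓ centralizer {d} : Subgroup G) : Set G) := fun e he =>
    Coprime.mem_normalizer_of_forall fun x hx => ⟨(mem_normalizer_iff.1 (hER he) x).1 hx.1, by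
      have hx2 := mem_centralizer_singleton_iff.1 hx.2
      have hed := hE.comm e he d hd
      refine mem_centralizer_singleton_iff.2 ?_
      calc e * x * e⁻¹ * d = e * x * (e⁻¹ * (d * e)) * e⁻¹ := by group
        _ = e * x * (e⁻¹ * (e * d)) * e⁻¹ := by rw [hed]
        _ = e * (x * d) * e⁻¹ := by group
        _ = e * (d * x) * e⁻¹ := by rw [hx2]
        _ = (e * d) * x * e⁻¹ := by group
        _ = (d * e) * x * e⁻¹ := by rw [hed]
        _ = d * (e * x * e⁻¹) := by group⟩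
  have hyd : d * y * d⁻¹ = y := by
    have h1 : y ∈ R ⊓ centralizer {d} := le_normalizer_iff_commutator_le_left.1 hCd hy
    rw [← mem_centralizer_singleton_iff.1 h1.2, mul_inv_cancel_right]
  obtain ⟨a, ha, e⟩ := norm4_eq hE hEN hN ht hu ht1 hu1 hne hz hd hd1
  have h2 : d * ⁅b, y⁆ * d⁻¹ = ⁅d * b * d⁻¹, y⁆ := by
    conv_rhs => rw [← hyd]
    simp only [commutatorElement_def]
    group
  have hw : ⁅b, y⁆ * (d * ⁅b, y⁆ * d⁻¹) ∈ S := by
    rw [h2, hcy, commutatorElement_def, mul_assoc, mul_assoc, ← mul_assoc y]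
    rw [show c * (y * c⁻¹ * y⁻¹) = (c * y * c⁻¹) * y⁻¹ by group]
    exact S.mul_mem ((mem_normalizer_iff.1
      (normalizer_commutator_ge_left (R ⊓ centralizer {d}) E hc) y).1 hy) (S.inv_mem hy)
  refine le_fixJoin R hd hd1 ⟨?_, ?_⟩
  · rw [e]
    exact S.mul_mem hw ((mem_normalizer_iff.1
      (normalizer_commutator_ge_right (R ⊓ centralizer {d}) E ha) _).1 hw)
  · -- the norm is fixed
    refine mem_centralizer_iff.2 fun f hf => ?_
    exact mul_inv_eq_iff_eq_mul.1 (norm4_fixed hE hEN hN ht hu ht1 hu1 hne hz hf)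

theorem IsFour.exists_pair (hE : IsFour E) :
    ∃ t u : G, t ∈ E ∧ u ∈ E ∧ t ≠ 1 ∧ u ≠ 1 ∧ t ≠ u := by
  obtain ⟨t, ht, ht1⟩ : ∃ t ∈ E, t ≠ 1 := by
    refine E.bot_or_exists_ne_one.resolve_left fun h => ?_
    have := hE.card
    rw [h, Subgroup.card_bot] at this
    omega
  obtain ⟨u, hu, hu1, hut⟩ := hE.exists_ne ht ht1
  exact ⟨t, u, ht, hu, ht1, hu1, hut.symm⟩

theorem centralizer_inf_invariant (hE : IsFour E) (hER : E ≤ normalizer (R : Set G)) {d : G}
    (hd : d ∈ E) : E ≤ normalizer ((R ⊓ centralizer {d} : Subgroup G) : Set G) := fun e he =>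
  Coprime.mem_normalizer_of_forall fun x hx => ⟨(mem_normalizer_iff.1 (hER he) x).1 hx.1, by
    have hx2 := mem_centralizer_singleton_iff.1 hx.2
    have hed := hE.comm e he d hd
    refine mem_centralizer_singleton_iff.2 ?_
    calc e * x * e⁻¹ * d = e * x * (e⁻¹ * (d * e)) * e⁻¹ := by group
      _ = e * x * (e⁻¹ * (e * d)) * e⁻¹ := by rw [hed]
      _ = e * (x * d) * e⁻¹ := by group
      _ = e * (d * x) * e⁻¹ := by rw [hx2]
      _ = (e * d) * x * e⁻¹ := by group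
      _ = (d * e) * x * e⁻¹ := by rw [hed]
      _ = d * (e * x * e⁻¹) := by group⟩

/-- The elements of the `[C_R(d), E]`. -/
def gens (R E : Subgroup G) : Set G :=
  {y | ∃ d ∈ E, d ≠ 1 ∧ y ∈ ⁅R ⊓ centralizer {d}, E⁆}

/-- `R` is generated by the `[C_R(d), E]` and `C_R(E)`. -/
theorem le_gens_sup (hE : IsFour E) (hR : Odd (Nat.card R)) (hER : E ≤ normalizer (R : Set G)) :
    R ≤ closure (gens R E) ⊔ (R ⊓ centralizer (E : Set G)) := by
  haveI : IsMulCommutative E := ⟨⟨fun a b => Subtype.ext (hE.comm a a.2 b b.2)⟩⟩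
  refine Coprime.le_of_noncyclic hE.not_cyclic hER (hE.coprime hR) fun d hd hd1 => ?_
  have h := centralizer_inf_invariant hE hER hd
  rw [← Coprime.commutator_sup_centralizer h ((hE.coprime hR).coprime_dvd_right
    (Subgroup.card_dvd_of_le inf_le_left)) (Or.inr (Coprime.isSolvable_of_le inf_le_left (OddOrderTheorem.solvable hR)))]
  exact sup_le_sup (fun y hy => subset_closure ⟨d, hd, hd1, hy⟩) (inf_le_inf_right _ inf_le_left)

/-- `[R, E]` is generated by the `[C_R(d), E]`. -/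
theorem commutator_le_gens (hE : IsFour E) (hR : Odd (Nat.card R))
    (hER : E ≤ normalizer (R : Set G)) : ⁅R, E⁆ ≤ closure (gens R E) := by
  set W := closure (gens R E)
  have hEW : E ≤ normalizer (W : Set G) := by
    refine le_normalizer_closure_iff.2 ?_
    rintro e he y ⟨d, hd, hd1, hy⟩
    exact subset_closure ⟨d, hd, hd1, (mem_normalizer_iff.1
      (normalizer_commutator_ge_right _ E he) y).1 hy⟩
  have hCW : R ⊓ centralizer (E : Set G) ≤ normalizer (W : Set G) := by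
    refine le_normalizer_closure_iff.2 ?_
    rintro c hc y ⟨d, hd, hd1, hy⟩
    have hcd : c ∈ R ⊓ centralizer {d} :=
      ⟨hc.1, mem_centralizer_singleton_iff.2 (hc.2 d hd).symm⟩
    exact subset_closure ⟨d, hd, hd1, (mem_normalizer_iff.1
      (normalizer_commutator_ge_left _ E hcd) y).1 hy⟩
  rw [commutator_le]
  intro r hr e he
  obtain ⟨w, hw, c, hc, rfl⟩ := (Coprime.mem_sup_iff hCW).1 (le_gens_sup hE hR hER hr)
  have h1 : c * e * c⁻¹ = e := mul_inv_eq_iff_eq_mul.2 (hc.2 e he).symm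
  have h2 : ⁅w * c, e⁆ = w * (e * w⁻¹ * e⁻¹) := by
    rw [commutatorElement_def, show w * c * e * (w * c)⁻¹ * e⁻¹ = w * ((c * e * c⁻¹) * w⁻¹ * e⁻¹) by group,
      h1]
  rw [h2]
  exact W.mul_mem hw ((mem_normalizer_iff.1 (hEW he) _).1 (W.inv_mem hw))

theorem mem_normIn {hE : IsFour E} {hEN : E ≤ normalizer (N : Set G)}
    {hN : ∀ a ∈ N, ∀ b ∈ N, a * b = b * a} {t u : G} {ht : t ∈ E} {hu : u ∈ E} {W : Subgroup G}
    {z : G} : z ∈ normIn hE hEN hN ht hu W ↔ z ∈ N ∧ norm4 t u z ∈ W := Iff.rfl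

/-- Commutators with a generating set lie in `M`. -/
theorem commutator_mem_of_gens {B M : Subgroup G} {Γ : Set G} (hMB : M ≤ B)
    (hΓ : ∀ b ∈ B, ∀ y ∈ Γ, ⁅b, y⁆ ∈ M) {b y : G} (hb : b ∈ B) (hy : y ∈ closure Γ) :
    ⁅b, y⁆ ∈ M := by
  have h1 : y ∈ Submonoid.closure Γ := by
    rw [← Subgroup.closure_toSubmonoid_of_finite]
    exact hy
  suffices ∀ b ∈ B, ⁅b, y⁆ ∈ M from this b hb
  clear hy hb b
  induction h1 using Submonoid.closure_induction_left with
  | one => intro b _; simp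
  | mul_left a ha z hz ih =>
    intro b hb
    have e : ⁅b, a * z⁆ = ⁅b, a⁆ * (⁅⁅b, z⁆, a⁆⁻¹ * ⁅b, z⁆) := by
      simp only [commutatorElement_def]; group
    rw [e]
    exact M.mul_mem (hΓ b hb a ha)
      (M.mul_mem (M.inv_mem (hΓ _ (hMB (ih b hb)) a ha)) (ih b hb))

/-- A coset fixed modulo `N` has a fixed point. -/
theorem exists_fixed_mod {A K : Subgroup G} (hAK : A ≤ normalizer (K : Set G))
    (hcop : (Nat.card A).Coprime (Nat.card K)) (hK : Group.IsSolvable K)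
    (hAN : A ≤ normalizer (N : Set G)) {x : G} (hx : x ∈ K)
    (hfix : ∀ a ∈ A, x⁻¹ * a * x * a⁻¹ ∈ N) :
    ∃ c ∈ K ⊓ centralizer (A : Set G), x⁻¹ * c ∈ N := by
  obtain ⟨c, hc, h⟩ := Coprime.exists_mem_centralizer_of_coset' hAK hcop (Or.inr hK)
    (N := N ⊓ K) inf_le_right (fun a ha => Coprime.mem_normalizer_of_forall fun z hz =>
      ⟨(mem_normalizer_iff.1 (hAN ha) z).1 hz.1, (mem_normalizer_iff.1 (hAK ha) z).1 hz.2⟩) hx
    fun a ha => ⟨hfix a ha, by
      have h2 := K.mul_mem (K.inv_mem hx) ((mem_normalizer_iff.1 (hAK ha) x).1 hx)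
      simpa [mul_assoc] using h2⟩
  exact ⟨c, hc, h.1⟩

/-- Lifting the statement from the quotient by `N`. -/
theorem fixed_le_of_quotient (hE : IsFour E) (hR : Odd (Nat.card R))
    (hER : E ≤ normalizer (R : Set G)) (hNR : N ≤ R) (hRN : R ≤ normalizer (N : Set G))
    (hEN : E ≤ normalizer (N : Set G)) (hN1 : N ≠ ⊥) (hgen : ⁅R, E⁆ = R)
    (ih : ∀ {H : Type u} [Group H] [Finite H] {E' R' : Subgroup H}, IsFour E' →
      Odd (Nat.card R') → E' ≤ normalizer (R' : Set H) → Nat.card R' < Nat.card R →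
      ⁅R', E'⁆ ⊓ centralizer (E' : Set H) ≤ fixJoin R' E') :
    R ⊓ centralizer (E : Set G) ≤ fixJoin R E ⊔ N := by
  rintro x ⟨hx, hxE⟩
  set X := normalizer (N : Set G) with hX
  have hNX : N ≤ X := Subgroup.le_normalizer
  haveI : (N.subgroupOf X).Normal := normal_subgroupOf_of_le_normalizer le_rfl
  set q := QuotientGroup.mk' (N.subgroupOf X) with hq
  set E' := (E.subgroupOf X).map q with hE'
  set R' := (R.subgroupOf X).map q with hR'
  have hsol : Group.IsSolvable R := OddOrderTheorem.solvable hR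
  have hqker : ∀ y : X, q y = 1 ↔ (y : G) ∈ N := fun y =>
    (QuotientGroup.eq_one_iff y).trans mem_subgroupOf
  have hinjE : ∀ e ∈ E, e ∈ N → e = 1 := fun e he heN =>
    Coprime.eq_one_of_mem_of_mem (hE.coprime hR) he (hNR heN)
  have hE4 : IsFour E' := by
    refine ⟨?_, ?_, ?_⟩
    · rintro _ ⟨a, ha, rfl⟩ _ ⟨b, hb, rfl⟩
      rw [← map_mul, ← map_mul, show a * b = b * a from
        Subtype.ext (hE.comm a (mem_subgroupOf.1 ha) b (mem_subgroupOf.1 hb))]
    · rintro _ ⟨a, ha, rfl⟩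
      rw [← map_mul, show a * a = 1 from Subtype.ext (hE.sq a (mem_subgroupOf.1 ha)), map_one]
    · rw [hE', ← hE.card, ← Cores.card_subgroupOf hEN]
      refine (Nat.card_congr (Equiv.ofBijective (q.subgroupMap (E.subgroupOf X))
        ⟨(injective_iff_map_eq_one _).2 fun e he => ?_, q.subgroupMap_surjective _⟩)).symm
      exact Subtype.ext (Subtype.ext (hinjE _ (mem_subgroupOf.1 e.2)
        ((hqker (e : X)).1 (congrArg Subtype.val he))))
  have hR'odd : Odd (Nat.card R') :=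
    hR.of_dvd_nat ((card_map_dvd _ _).trans (dvd_of_eq (Cores.card_subgroupOf hRN)))
  have hER' : E' ≤ normalizer (R' : Set (X ⧸ N.subgroupOf X)) := by
    refine le_trans (map_mono ?_) (le_normalizer_map q)
    intro e he
    exact mem_normalizer_iff.2 fun z => by
      simpa [mem_subgroupOf] using mem_normalizer_iff.1 (hER (mem_subgroupOf.1 he)) z
  have hlt : Nat.card R' < Nat.card R := by
    rw [← Cores.card_subgroupOf hRN]
    refine lt_of_le_of_ne (Nat.le_of_dvd Nat.card_pos (card_map_dvd _ _)) fun e => hN1 ?_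
    have hinj : Function.Injective (q.subgroupMap (R.subgroupOf X)) :=
      ((Nat.bijective_iff_surjective_and_card _).2 ⟨q.subgroupMap_surjective _, e.symm⟩).injective
    refine eq_bot_iff.2 fun n hn => ?_
    have h1 : q.subgroupMap (R.subgroupOf X) ⟨⟨n, hNX hn⟩, mem_subgroupOf.2 (hNR hn)⟩ = 1 :=
      Subtype.ext ((hqker ⟨n, hNX hn⟩).2 hn)
    exact congrArg (fun z : R.subgroupOf X => ((z : X) : G)) (hinj (h1.trans (map_one _).symm))
  have hmem : q ⟨x, hRN hx⟩ ∈ ⁅R', E'⁆ ⊓ centralizer (E' : Set (X ⧸ N.subgroupOf X)) := by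
    refine ⟨?_, ?_⟩
    · rw [hR', hE', ← map_commutator]
      refine mem_map_of_mem q ?_
      have h1 : x ∈ (⁅R.subgroupOf X, E.subgroupOf X⁆).map X.subtype := by
        rw [map_commutator, map_subgroupOf_eq_of_le hRN, map_subgroupOf_eq_of_le hEN, hgen]
        exact hx
      obtain ⟨y, hy, e⟩ := h1
      exact (show y = ⟨x, hRN hx⟩ from Subtype.ext e) ▸ hy
    · rintro _ ⟨e, he, rfl⟩
      rw [← map_mul, ← map_mul,
        show e * ⟨x, hRN hx⟩ = ⟨x, hRN hx⟩ * e from Subtype.ext (hxE e (mem_subgroupOf.1 he))]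
  have hsub : fixJoin R' E' ≤ ((fixJoin R E ⊔ N).subgroupOf X).map q := by
    refine iSup_le ?_
    rintro ⟨_, ⟨d, hd, rfl⟩, hd1⟩
    have hdE : (d : G) ∈ E := mem_subgroupOf.1 hd
    have hd1' : (d : G) ≠ 1 := fun e => hd1 (by rw [show d = 1 from Subtype.ext e, map_one])
    have hCd := centralizer_inf_invariant hE hER hdE
    have hcent : R' ⊓ centralizer {q d} ≤ ((R ⊓ centralizer {(d : G)}).subgroupOf X).map q := by
      rintro _ ⟨⟨r, hr, rfl⟩, hrd⟩
      obtain ⟨c, hc, hrc⟩ := exists_fixed_mod (A := zpowers (d : G)) (N := N)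
        ((zpowers_le.2 hdE).trans hER) ((hE.coprime hR).coprime_dvd_left
          (Subgroup.card_dvd_of_le (zpowers_le.2 hdE))) hsol ((zpowers_le.2 hdE).trans hEN)
        (mem_subgroupOf.1 hr) (fun a ha => by
          obtain ⟨i, rfl⟩ := mem_zpowers_iff.1 ha
          have h1 : q (r⁻¹ * d ^ i * r * (d ^ i)⁻¹) = 1 := by
            have h2 : Commute (q r) (q d ^ i) :=
              Commute.zpow_right (mem_centralizer_singleton_iff.1 hrd) i
            simp only [map_mul, map_inv, map_zpow]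
            rw [mul_assoc ((q r)⁻¹), h2.eq.symm]
            group
          simpa using (hqker _).1 h1)
      have hcX : c ∈ X := hRN hc.1
      refine ⟨⟨c, hcX⟩, mem_subgroupOf.2 ⟨hc.1, mem_centralizer_singleton_iff.2
        (hc.2 d (mem_zpowers _)).symm⟩, ?_⟩
      have h1 : q (r⁻¹ * ⟨c, hcX⟩) = 1 := (hqker _).2 hrc
      rw [map_mul, map_inv, inv_mul_eq_one] at h1
      exact h1.symm
    intro y hy
    have h2 : y ∈ ((⁅R ⊓ centralizer {(d : G)}, E⁆).subgroupOf X).map q := by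
      have h3 : ⁅R' ⊓ centralizer {q d}, E'⁆ ≤
          (⁅(R ⊓ centralizer {(d : G)}).subgroupOf X, E.subgroupOf X⁆).map q := by
        rw [map_commutator]
        exact commutator_mono hcent le_rfl
      refine map_mono ?_ (h3 hy.1)
      rw [← map_le_map_iff_of_injective (subtype_injective X), map_commutator,
        map_subgroupOf_eq_of_le (inf_le_left.trans hRN), map_subgroupOf_eq_of_le hEN,
        map_subgroupOf_eq_of_le ((le_normalizer_iff_commutator_le_left.1 hCd).trans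
          (inf_le_left.trans hRN))]
    obtain ⟨z, hz, rfl⟩ := h2
    have hSR : ⁅R ⊓ centralizer {(d : G)}, E⁆ ≤ R :=
      (le_normalizer_iff_commutator_le_left.1 hCd).trans inf_le_left
    obtain ⟨c, hc, hzc⟩ := exists_fixed_mod (A := E) (N := N)
      (normalizer_commutator_ge_right _ E) ((hE.coprime hR).coprime_dvd_right
        (Subgroup.card_dvd_of_le hSR)) (Coprime.isSolvable_of_le hSR hsol) hEN
      (mem_subgroupOf.1 hz) (fun a ha => by
        have h1 : q (z⁻¹ * ⟨a, hEN ha⟩ * z * (⟨a, hEN ha⟩ : X)⁻¹) = 1 := by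
          simp only [map_mul, map_inv]
          rw [mul_assoc ((q z)⁻¹), hy.2 _ (mem_map_of_mem q (mem_subgroupOf.2 ha))]
          group
        simpa using (hqker _).1 h1)
    have hcX : c ∈ X := hRN (hSR hc.1)
    refine ⟨⟨c, hcX⟩, mem_subgroupOf.2 (mem_sup_left (le_fixJoin R hdE hd1' hc)), ?_⟩
    have h1 : q (z⁻¹ * ⟨c, hcX⟩) = 1 := (hqker _).2 hzc
    rw [map_mul, map_inv, inv_mul_eq_one] at h1
    exact h1.symm
  obtain ⟨y, hy, e⟩ := hsub (ih hE4 hR'odd hER' hlt hmem)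
  have h1 : q (y⁻¹ * ⟨x, hRN hx⟩) = 1 := by rw [map_mul, map_inv, e, inv_mul_cancel]
  have h2 := (fixJoin R E ⊔ N).mul_mem (mem_subgroupOf.1 hy) (mem_sup_right ((hqker _).1 h1))
  simpa using h2

/-- The fixed points in `[R, E]`. -/
theorem fixed_commutator_le_aux : ∀ (n : ℕ) {G : Type u} [Group G] [Finite G] {E R : Subgroup G},
    Nat.card R = n → IsFour E → Odd (Nat.card R) → E ≤ normalizer (R : Set G) →
    ⁅R, E⁆ ⊓ centralizer (E : Set G) ≤ fixJoin R E := by
  intro n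
  induction n using Nat.strong_induction_on with
  | _ n ih =>
  intro G _ _ E R hn hE hR hER
  subst hn
  have hcop := hE.coprime hR
  have hsol : Group.IsSolvable R := OddOrderTheorem.solvable hR
  have hKR : ⁅R, E⁆ ≤ R := le_normalizer_iff_commutator_le_left.1 hER
  by_cases hgen : ⁅R, E⁆ = R
  swap
  · have hlt : Nat.card ↥⁅R, E⁆ < Nat.card R := (Subgroup.card_le_of_le hKR).lt_of_ne
      fun e => hgen (Subgroup.eq_of_le_of_card_ge hKR e.ge)
    have h := ih _ hlt rfl hE (hR.of_dvd_nat (Subgroup.card_dvd_of_le hKR))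
      (normalizer_commutator_ge_right R E)
    rw [Coprime.commutator_commutator_eq hER hcop (Or.inr hsol)] at h
    exact h.trans (fixJoin_mono hKR)
  rw [hgen]
  obtain ⟨t, u, ht, hu, ht1, hu1, hne⟩ := hE.exists_pair
  have hRgen : R ≤ closure (gens R E) := hgen.ge.trans (commutator_le_gens hE hR hER)
  have hSR : ∀ {d : G}, d ∈ E → ⁅R ⊓ centralizer {d}, E⁆ ≤ R ⊓ centralizer {d} := fun hd =>
    le_normalizer_iff_commutator_le_left.1 (centralizer_inf_invariant hE hER hd)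
  by_cases hab : ⁅R, R⁆ = ⊥
  · have hN : ∀ a ∈ R, ∀ b ∈ R, a * b = b * a := fun a ha b hb =>
      ((commutator_eq_bot_iff_le_centralizer.1 hab) ha b hb).symm
    refine fixed_le_of_norm4 hR ht hu fun z hz => ?_
    have h1 : closure (gens R E) ≤ normIn hE hER hN ht hu (fixJoin R E) := by
      rw [closure_le]
      rintro y ⟨d, hd, hd1, hy⟩
      have hyR := hSR hd hy
      refine ⟨hyR.1, le_fixJoin R hd hd1 ⟨?_, mem_centralizer_iff.2 fun f hf => mul_inv_eq_iff_eq_mul.1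
        (norm4_fixed hE hER hN ht hu ht1 hu1 hne hyR.1 hf)⟩⟩
      obtain ⟨a, ha, e⟩ := norm4_eq hE hER hN ht hu ht1 hu1 hne hyR.1 hd hd1
      rw [e, show d * y * d⁻¹ = y by
        rw [← mem_centralizer_singleton_iff.1 hyR.2, mul_inv_cancel_right]]
      exact mul_mem (mul_mem hy hy)
        ((mem_normalizer_iff.1 (normalizer_commutator_ge_right _ E ha) _).1 (mul_mem hy hy))
    exact (h1 (hRgen hz)).2
  -- a minimal noncentral invariant normal subgroup
  obtain ⟨B, ⟨hBR, hRB, hEB, hB1⟩, hmin⟩ := Set.Finite.exists_minimal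
    (s := {B : Subgroup G | B ≤ R ∧ R ≤ normalizer (B : Set G) ∧ E ≤ normalizer (B : Set G) ∧
      ⁅B, R⁆ ≠ ⊥})
    (Set.toFinite _) ⟨R, le_rfl, le_normalizer, hER, hab⟩
  have hcent : ∀ C : Subgroup G, C ≤ B → C ≠ B → R ≤ normalizer (C : Set G) →
      E ≤ normalizer (C : Set G) → ⁅C, R⁆ = ⊥ := fun C hC hne' h1 h2 => by
    by_contra hn
    exact hne' (le_antisymm hC (hmin ⟨hC.trans hBR, h1, h2, hn⟩ hC))
  have hB0 : B ≠ ⊥ := fun e => hB1 (by rw [e, commutator_bot_left])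
  set T := ⁅B, R⁆ with hT
  have hTB : T ≤ B := le_normalizer_iff_commutator_le_left.1 hRB
  have hRT : R ≤ normalizer (T : Set G) := normalizer_commutator_ge_right B R
  have hET : E ≤ normalizer (T : Set G) := fun e he =>
    Coprime.le_normalizer_commutator hEB hER he
  have hBB : ⁅B, B⁆ ≤ B := commutator_le_self B
  have hBBne : ⁅B, B⁆ ≠ B := fun e => hB0 (by
    haveI : Group.IsSolvable B := Coprime.isSolvable_of_le hBR hsol
    by_contra hb
    haveI : Nontrivial B := (nontrivial_iff_ne_bot B).2 hb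
    haveI : Group.IsPerfect B := Subgroup.isPerfect_iff.2 e
    exact Group.IsPerfect.not_isSolvable B inferInstance)
  have hRBB : R ≤ normalizer ((⁅B, B⁆ : Subgroup G) : Set G) := Coprime.le_normalizer_commutator hRB hRB
  have hEBB : E ≤ normalizer ((⁅B, B⁆ : Subgroup G) : Set G) := Coprime.le_normalizer_commutator hEB hEB
  have hBBcent : ⁅⁅B, B⁆, R⁆ = ⊥ := hcent _ hBB hBBne hRBB hEBB
  have hcomm : ∀ {C : Subgroup G}, ⁅C, R⁆ = ⊥ → ∀ a ∈ C, ∀ b ∈ R, a * b = b * a := fun h a ha b hb =>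
    ((commutator_eq_bot_iff_le_centralizer.1 h) ha b hb).symm
  have hlift : ∀ {N : Subgroup G}, N ≤ R → R ≤ normalizer (N : Set G) → E ≤ normalizer (N : Set G) →
      N ≠ ⊥ → R ⊓ centralizer (E : Set G) ≤ fixJoin R E ⊔ N := fun h1 h2 h3 h4 =>
    fixed_le_of_quotient hE hR hER h1 h2 h3 h4 hgen fun g1 g2 g3 g4 => ih _ g4 rfl g1 g2 g3
  have hfin : ∀ {N : Subgroup G}, N ≤ R → R ≤ normalizer (N : Set G) → E ≤ normalizer (N : Set G) →
      N ≠ ⊥ → N ⊓ centralizer (E : Set G) ≤ fixJoin R E →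
      R ⊓ centralizer (E : Set G) ≤ fixJoin R E := by
    intro N h1 h2 h3 h4 h5 x hx
    have hJR : fixJoin R E ≤ R ⊓ centralizer (E : Set G) :=
      iSup_le fun d => inf_le_inf_right _ ((hSR d.2.1).trans inf_le_left)
    obtain ⟨j, hj, n, hn, rfl⟩ := (Coprime.mem_sup_iff ((hJR.trans inf_le_left).trans h2)).1
      ((sup_comm (fixJoin R E) N) ▸ hlift h1 h2 h3 h4 hx)
    refine mul_mem (h5 ⟨hj, ?_⟩) hn
    simpa using (centralizer (E : Set G)).mul_mem hx.2 ((centralizer (E : Set G)).inv_mem (hJR hn).2)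
  have hpair : ∀ {d : G}, d ∈ E → ∀ b : G,
      d * (b * (d * b * d⁻¹)) * d⁻¹ = d * b * d⁻¹ * b := by
    intro d hd b
    calc d * (b * (d * b * d⁻¹)) * d⁻¹ = d * b * d⁻¹ * ((d * d) * b * (d * d)⁻¹) := by group
      _ = _ := by rw [hE.sq d hd]; group
  by_cases hBab : ⁅B, B⁆ = ⊥
  · -- `B` abelian, `N = [B, R]`
    have hBcomm : ∀ a ∈ B, ∀ b ∈ B, a * b = b * a := fun a ha b hb =>
      ((commutator_eq_bot_iff_le_centralizer.1 hBab) ha b hb).symm
    have hTab : ∀ a ∈ T, ∀ b ∈ T, a * b = b * a := fun a ha b hb =>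
      hBcomm a (hTB ha) b (hTB hb)
    refine hfin (hTB.trans hBR) hRT hET hB1 ?_
    refine fixed_le_of_norm4 (hR.of_dvd_nat (Subgroup.card_dvd_of_le (hTB.trans hBR))) ht hu
      fun z hz => ?_
    have hle : T ≤ normIn hE hET hTab ht hu (fixJoin R E) := by
      refine commutator_le.2 fun b hb y hy => ?_
      refine commutator_mem_of_gens (Γ := gens R E) (B := B) (fun m hm => hTB (mem_normIn.1 hm).1) ?_ hb (hRgen hy)
      rintro b hb y ⟨d, hd, hd1, hy⟩
      have hyR := hSR hd hy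
      have hdb : d * b * d⁻¹ ∈ B := (mem_normalizer_iff.1 (hEB hd) b).1 hb
      have hz' : ⁅b, y⁆ ∈ T := commutator_mem_commutator hb hyR.1
      have hm : ⁅d * b * d⁻¹, y⁆ ∈ B := hTB (commutator_mem_commutator hdb hyR.1)
      refine ⟨hz', norm4_commutator_mem hE hER hET hTab ht hu ht1 hu1 hne hd hd1
        (c := b * (d * b * d⁻¹)) hy
        ⟨R.mul_mem (hBR hb) (hBR hdb), mem_centralizer_singleton_iff.2 ?_⟩ hz' ?_⟩
      · refine (mul_inv_eq_iff_eq_mul.1 ?_).symm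
        rw [hpair hd b, hBcomm _ hdb _ hb]
      · have e2 : ⁅b * (d * b * d⁻¹), y⁆ = b * ⁅d * b * d⁻¹, y⁆ * b⁻¹ * ⁅b, y⁆ := by
          simp only [commutatorElement_def]; group
        rw [e2, hBcomm b hb _ hm, mul_inv_cancel_right,
          hTab _ hz' _ (commutator_mem_commutator hdb hyR.1)]
    exact (hle hz).2
  -- `N = [B, B]` is central
  set N := ⁅B, B⁆ with hN
  have hNR : N ≤ R := hBB.trans hBR
  have hNc : ∀ a ∈ N, ∀ b ∈ R, a * b = b * a := hcomm hBBcent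
  have hNab : ∀ a ∈ N, ∀ b ∈ N, a * b = b * a := fun a ha b hb => hNc a ha b (hNR hb)
  refine hfin hNR hRBB hEBB hBab ?_
  refine fixed_le_of_norm4 (hR.of_dvd_nat (Subgroup.card_dvd_of_le hNR)) ht hu fun z hz => ?_
  set M := normIn hE hEBB hNab ht hu (fixJoin R E) with hM
  have hBodd : Odd (Nat.card B) := hR.of_dvd_nat (Subgroup.card_dvd_of_le hBR)
  have hstep : ∀ b ∈ B, ∀ y ∈ gens B E, ⁅b, y⁆ ∈ M := by
    rintro b hb y ⟨d, hd, hd1, hy⟩
    have hyS : y ∈ ⁅R ⊓ centralizer {d}, E⁆ :=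
      commutator_mono (inf_le_inf_right _ hBR) le_rfl hy
    have hyB : y ∈ B :=
      ((le_normalizer_iff_commutator_le_left.1 (centralizer_inf_invariant hE hEB hd)) hy).1
    have hdb : d * b * d⁻¹ ∈ B := (mem_normalizer_iff.1 (hEB hd) b).1 hb
    have hz' : ⁅b, y⁆ ∈ N := commutator_mem_commutator hb hyB
    have hdd := hE.sq d hd
    obtain ⟨c, hc, hcn⟩ := exists_fixed_mod (A := zpowers d) (N := N) (K := B)
      ((zpowers_le.2 hd).trans hEB) ((hE.coprime hBodd).coprime_dvd_left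
        (Subgroup.card_dvd_of_le (zpowers_le.2 hd))) (Coprime.isSolvable_of_le hBR hsol)
      ((zpowers_le.2 hd).trans hEBB) (B.mul_mem hb hdb) (fun a ha => by
        have ha2 : a = 1 ∨ a = d := by
          obtain ⟨i, rfl⟩ := mem_zpowers_iff.1 ha
          have h2 : d ^ (2 : ℤ) = 1 := by rw [zpow_two, hdd]
          rcases Int.even_or_odd' i with ⟨k, rfl | rfl⟩
          · left; rw [zpow_mul, h2, one_zpow]
          · right; rw [zpow_add, zpow_one, zpow_mul, h2, one_zpow, one_mul]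
        rcases ha2 with rfl | rfl
        · simp [mul_assoc]
        · have e : (b * (a * b * a⁻¹))⁻¹ * a * (b * (a * b * a⁻¹)) * a⁻¹ =
              ⁅(a * b * a⁻¹)⁻¹, b⁻¹⁆ := by
            calc _ = (a * b * a⁻¹)⁻¹ * b⁻¹ * (a * (b * (a * b * a⁻¹)) * a⁻¹) := by group
              _ = _ := by rw [hpair hd b]; simp only [commutatorElement_def]; group
          rw [e]
          exact commutator_mem_commutator (B.inv_mem hdb) (B.inv_mem hb))
    refine ⟨hz', norm4_commutator_mem hE hER hEBB hNab ht hu ht1 hu1 hne hd hd1 hyS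
      ⟨hBR hc.1, mem_centralizer_singleton_iff.2 (hc.2 d (mem_zpowers d)).symm⟩ hz' ?_⟩
    generalize hn : (b * (d * b * d⁻¹))⁻¹ * c = n at hcn
    have hc' : c = b * (d * b * d⁻¹) * n := by rw [← hn]; group
    have hm' : ⁅d * b * d⁻¹, y⁆ ∈ N := commutator_mem_commutator hdb hyB
    rw [hc']
    generalize d * b * d⁻¹ = b' at hm' ⊢
    have e1 : ⁅b * b' * n, y⁆ = ⁅b * b', y⁆ := by
      simp only [commutatorElement_def]
      rw [show b * b' * n * y * (b * b' * n)⁻¹ * y⁻¹ =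
        b * b' * (n * y) * n⁻¹ * (b * b')⁻¹ * y⁻¹ by group, hNc n hcn y (hBR hyB)]
      group
    have e2 : ⁅b * b', y⁆ = b * ⁅b', y⁆ * b⁻¹ * ⁅b, y⁆ := by
      simp only [commutatorElement_def]; group
    rw [e1, e2, ← hNc _ hm' b (hBR hb), mul_inv_cancel_right, hNab _ hz' _ hm']
  have hJR : fixJoin R E ≤ R ⊓ centralizer (E : Set G) :=
    iSup_le fun d => inf_le_inf_right _ ((hSR d.2.1).trans inf_le_left)
  have hstep2 : ∀ y ∈ B ⊓ centralizer (E : Set G), ∀ b ∈ B, ⁅b, y⁆ ∈ M := by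
    intro y hy
    have hsum : B ≤ closure (gens B E ∪ ↑(B ⊓ centralizer (E : Set G))) :=
      (le_gens_sup hE hBodd hEB).trans (sup_le (closure_mono Set.subset_union_left)
        fun x hx => subset_closure (Or.inr hx))
    have hmem : ∀ b ∈ closure (gens B E ∪ ↑(B ⊓ centralizer (E : Set G))), b ∈ B := fun b hb => by
      refine (closure_le _).2 (Set.union_subset ?_ fun x hx => hx.1) hb
      rintro x ⟨d, hd, -, hx⟩
      exact ((le_normalizer_iff_commutator_le_left.1 (centralizer_inf_invariant hE hEB hd)) hx).1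
    suffices ∀ b ∈ closure (gens B E ∪ ↑(B ⊓ centralizer (E : Set G))), ⁅b, y⁆ ∈ M from
      fun b hb => this b (hsum hb)
    intro b hb
    induction hb using closure_induction with
    | one => simp
    | mul a c ha hc iha ihc =>
      rw [show ⁅a * c, y⁆ = a * ⁅c, y⁆ * a⁻¹ * ⁅a, y⁆ by simp only [commutatorElement_def]; group,
        ← hNc _ ihc.1 a (hBR (hmem a ha)), mul_inv_cancel_right]
      exact M.mul_mem ihc iha
    | inv a ha iha =>
      have ha' := hBR (hmem a ha)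
      rw [show ⁅a⁻¹, y⁆ = a⁻¹ * ⁅a, y⁆⁻¹ * a by simp only [commutatorElement_def]; group,
        mul_assoc, hNc _ (N.inv_mem iha.1) a ha', inv_mul_cancel_left]
      exact M.inv_mem iha
    | mem x hx =>
      rcases hx with hx | hx
      · rw [← commutatorElement_inv y x]
        exact M.inv_mem (hstep y hy.1 x hx)
      · -- both fixed
        obtain ⟨n, hn, j, hj, e⟩ := (Coprime.mem_sup_iff ((hJR.trans inf_le_left).trans hRBB)).1
          ((sup_comm (fixJoin R E) N) ▸ hlift hNR hRBB hEBB hBab ⟨hBR hx.1, hx.2⟩)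
        obtain ⟨n', hn', j', hj', e'⟩ := (Coprime.mem_sup_iff ((hJR.trans inf_le_left).trans hRBB)).1
          ((sup_comm (fixJoin R E) N) ▸ hlift hNR hRBB hEBB hBab ⟨hBR hy.1, hy.2⟩)
        have hzN : ⁅x, y⁆ ∈ N := commutator_mem_commutator hx.1 hy.1
        have hjj : ⁅x, y⁆ = ⁅j, j'⁆ := by
          have hn'j : ∀ {w : G}, w ∈ R → n' * w = w * n' := fun hw => hNc n' hn' _ hw
          rw [← e, ← e']
          simp only [commutatorElement_def]
          calc n * j * (n' * j') * (n * j)⁻¹ * (n' * j')⁻¹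
              = n * (j * n') * j' * j⁻¹ * n⁻¹ * j'⁻¹ * n'⁻¹ := by group
            _ = n * (n' * j) * j' * j⁻¹ * n⁻¹ * j'⁻¹ * n'⁻¹ := by rw [hn'j (hJR hj).1]
            _ = n * (n' * (j * j' * j⁻¹)) * n⁻¹ * j'⁻¹ * n'⁻¹ := by group
            _ = (n * ((j * j' * j⁻¹) * n')) * n⁻¹ * j'⁻¹ * n'⁻¹ := by
              rw [hn'j (R.mul_mem (R.mul_mem (hJR hj).1 (hJR hj').1) (R.inv_mem (hJR hj).1))]
            _ = ((n * (j * j' * j⁻¹)) * n') * n⁻¹ * j'⁻¹ * n'⁻¹ := by group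
            _ = (((j * j' * j⁻¹) * n) * n') * n⁻¹ * j'⁻¹ * n'⁻¹ := by
              rw [hNc n hn _ (R.mul_mem (R.mul_mem (hJR hj).1 (hJR hj').1) (R.inv_mem (hJR hj).1))]
            _ = (j * j' * j⁻¹) * (n * n') * n⁻¹ * j'⁻¹ * n'⁻¹ := by group
            _ = (j * j' * j⁻¹) * (n' * n) * n⁻¹ * j'⁻¹ * n'⁻¹ := by rw [hn'j (hNR hn)]
            _ = (j * j' * j⁻¹) * (n' * j'⁻¹) * n'⁻¹ := by group
            _ = (j * j' * j⁻¹) * (j'⁻¹ * n') * n'⁻¹ := by rw [hn'j (R.inv_mem (hJR hj').1)]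
            _ = _ := by group
        have hfix : ∀ f ∈ E, f * ⁅x, y⁆ * f⁻¹ = ⁅x, y⁆ := fun f hf => by
          have h1 : ⁅x, y⁆ ∈ centralizer (E : Set G) := by
            rw [commutatorElement_def]
            exact mul_mem (mul_mem (mul_mem hx.2 hy.2) (inv_mem hx.2)) (inv_mem hy.2)
          exact mul_inv_eq_iff_eq_mul.2 (h1 f hf)
        have h4 : norm4 t u ⁅x, y⁆ = ⁅x, y⁆ * ⁅x, y⁆ * ⁅x, y⁆ * ⁅x, y⁆ := by
          rw [norm4, hfix t ht, hfix u hu, hfix _ (E.mul_mem ht hu)]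
        refine ⟨hzN, ?_⟩
        rw [h4, hjj, commutatorElement_def]
        exact mul_mem (mul_mem (mul_mem
          (mul_mem (mul_mem (mul_mem hj hj') (inv_mem hj)) (inv_mem hj'))
          (mul_mem (mul_mem (mul_mem hj hj') (inv_mem hj)) (inv_mem hj')))
          (mul_mem (mul_mem (mul_mem hj hj') (inv_mem hj)) (inv_mem hj')))
          (mul_mem (mul_mem (mul_mem hj hj') (inv_mem hj)) (inv_mem hj'))
  have hle : N ≤ M := by
    refine commutator_le.2 fun b hb y hy => ?_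
    refine commutator_mem_of_gens (Γ := gens B E ∪ ↑(B ⊓ centralizer (E : Set G))) (B := B)
      (fun m hm => hBB (mem_normIn.1 hm).1) ?_ hb ?_
    · rintro b hb y (hy | hy)
      · exact hstep b hb y hy
      · exact hstep2 y hy b hb
    · exact ((le_gens_sup hE hBodd hEB).trans (sup_le (closure_mono Set.subset_union_left)
        fun x hx => subset_closure (Or.inr hx))) hy
  exact (hle hz).2

/-- The fixed points in `[R, E]`. -/
theorem fixed_commutator_le (hE : IsFour E) (hR : Odd (Nat.card R))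
    (hER : E ≤ normalizer (R : Set G)) :
    ⁅R, E⁆ ⊓ centralizer (E : Set G) ≤ fixJoin R E :=
  fixed_commutator_le_aux _ rfl hE hR hER

end Cfsg.Agent.ClosedPair
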