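import Cfsg.Agent.Lib.ClosedPair.Null
import Cfsg.Agent.Lib.ClosedPair.FourFix
import Cfsg.Agent.Lib.Signalizer.SSFT.Main
import Cfsg.Agent.Lib.Signalizer.Core

/-!
# The signalizer functor of a closed pair (owner: helper65)

* `Quad` : commuting four-groups inside the two closed sets
* `side`, `theta` : the two-sided functor on `E₁ E₂`
* `Quad.isSignalizerFunctor`, `Quad.completion_inf`, `Quad.centralizer_le_normalizer`
* `Quad.commutator_le_completion`
-/

set_option autoImplicit false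

namespace Cfsg.Agent.ClosedPair

open scoped commutatorElement Pointwise
open Cfsg Subgroup

universe u

variable {G : Type u} [Group G]

/-- Commuting four-groups in the two closed sets, with the product theorem in all centralisers of
nontrivial elements. -/
structure Quad (T₁ T₂ : Set G) (E₁ E₂ : Subgroup G) : Prop where
  pair : ClosedPair T₁ T₂
  loc : ∀ a : G, a ≠ 1 → LocalConc T₁ T₂ a
  four₁ : IsFour E₁
  four₂ : IsFour E₂
  sub₁ : (E₁ : Set G) ⊆ T₁
  sub₂ : (E₂ : Set G) ⊆ T₂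
  comm : ∀ a ∈ E₁, ∀ b ∈ E₂, a * b = b * a

/-- One side of the functor. -/
def side (T₂ : Set G) (E₁ : Subgroup G) (t : G) (a : G) : Subgroup G :=
  ⁅centralizerPPrimeCore 2 a, E₁⁆ ⊔
    (centralizerPPrimeCore 2 a ⊓ (centralizer (E₁ : Set G) ⊓ Null T₂ t))

/-- The functor. -/
def theta (T₁ T₂ : Set G) (E₁ E₂ : Subgroup G) (t s : G) (a : G) : Subgroup G :=
  side T₂ E₁ t a ⊓ side T₁ E₂ s a

variable [Finite G]

theorem odd_R (a : G) : Odd (Nat.card (centralizerPPrimeCore 2 a)) := by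
  haveI : Fact (Nat.Prime 2) := ⟨Nat.prime_two⟩
  rw [← Nat.not_even_iff_odd, even_iff_two_dvd]
  exact Signalizer.not_dvd_card_core a

theorem isPGroup_zpowers_of_sq {a : G} (h : a * a = 1) : IsPGroup 2 (zpowers a) := by
  haveI : Fact (Nat.Prime 2) := ⟨Nat.prime_two⟩
  exact Signalizer.isPGroup_zpowers_of_pow_eq_one (by rw [pow_two]; exact h)

namespace Quad

variable {T₁ T₂ : Set G} {E₁ E₂ : Subgroup G}

theorem symm (S : Quad T₁ T₂ E₁ E₂) : Quad T₂ T₁ E₂ E₁ :=
  ⟨S.pair.symm, fun a ha => (S.loc a ha).symm, S.four₂, S.four₁, S.sub₂, S.sub₁,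
    fun a ha b hb => (S.comm b hb a ha).symm⟩

variable (S : Quad T₁ T₂ E₁ E₂)
include S

theorem le_cent₁ : E₁ ≤ centralizer (E₁ : Set G) := fun a ha b hb => S.four₁.comm b hb a ha

theorem le_cent : E₁ ⊔ E₂ ≤ centralizer ((E₁ ⊔ E₂ : Subgroup G) : Set G) := by
  refine sup_le (le_centralizer_iff.1 (sup_le ?_ ?_)) (le_centralizer_iff.1 (sup_le ?_ ?_))
  · exact fun a ha b hb => S.four₁.comm b hb a ha
  · exact fun a ha b hb => S.comm b hb a ha
  · exact fun a ha b hb => (S.comm a ha b hb).symm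
  · exact fun a ha b hb => S.four₂.comm b hb a ha

theorem le_cent_singleton {a : G} (ha : a ∈ E₁ ⊔ E₂) : E₁ ⊔ E₂ ≤ centralizer {a} := fun _ hb =>
  mem_centralizer_singleton_iff.2 (S.le_cent hb a ha).symm

theorem mem_prod {a : G} (ha : a ∈ E₁ ⊔ E₂) : ∃ e ∈ E₁, ∃ f ∈ E₂, a = e * f := by
  obtain ⟨e, he, f, hf, h⟩ := (Coprime.mem_sup_iff (N := E₁) (H := E₂) (fun f hf =>
    Subgroup.centralizer_le_normalizer _ fun e he => S.comm e he f hf)).1 ha
  exact ⟨e, he, f, hf, h.symm⟩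

theorem sq {a : G} (ha : a ∈ E₁ ⊔ E₂) : a * a = 1 := by
  obtain ⟨e, he, f, hf, rfl⟩ := S.mem_prod ha
  calc e * f * (e * f) = e * (f * e) * f := by group
    _ = (e * e) * (f * f) := by rw [← S.comm e he f hf]; group
    _ = 1 := by rw [S.four₁.sq e he, S.four₂.sq f hf, one_mul]

theorem elem : IsElementaryAbelian 2 (E₁ ⊔ E₂) :=
  ⟨⟨⟨fun a b => Subtype.ext (S.le_cent b.2 a a.2)⟩⟩, fun a ha => by rw [pow_two]; exact S.sq ha⟩

theorem isPGroup_zpowers {a : G} (ha : a ∈ E₁ ⊔ E₂) : IsPGroup 2 (zpowers a) :=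
  isPGroup_zpowers_of_sq (S.sq ha)

theorem le_card : 2 ^ 3 ≤ Nat.card ↥(E₁ ⊔ E₂) := by
  obtain ⟨t, u, ht, hu, ht1, hu1, hne⟩ := S.four₂.exists_pair
  have h1 := Subgroup.card_dvd_of_le (le_sup_left : E₁ ≤ E₁ ⊔ E₂)
  rw [S.four₁.card] at h1
  obtain ⟨k, hk⟩ := h1
  have hk1 : k ≠ 1 := fun e => by
    have h2 : E₁ = E₁ ⊔ E₂ := Subgroup.eq_of_le_of_card_ge le_sup_left
      (by rw [hk, e, S.four₁.card])
    exact ht1 (S.pair.disj t (S.sub₁ (h2.ge (mem_sup_right ht))) (S.sub₂ ht))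
  have hk0 : k ≠ 0 := fun e => Nat.card_pos.ne' (by rw [hk, e, mul_zero])
  omega

theorem invariant_R {a : G} (ha : a ∈ E₁ ⊔ E₂) :
    E₁ ⊔ E₂ ≤ normalizer (centralizerPPrimeCore 2 a : Set G) :=
  Signalizer.invariant_core S.elem.1 ha

theorem E₁_le_Null {b : G} (hb1 : b ≠ 1) (hb : b ∈ E₁ ⊔ E₂) : E₁ ≤ Null T₂ b := fun _ he =>
  mem_Null_of_mem (S.loc b hb1) (S.sub₁ he) (S.le_cent_singleton hb (mem_sup_left he))

theorem consistent {e b : G} (he : e ∈ E₁) (hb : b ∈ E₁ ⊔ E₂) (hb1 : b ≠ 1) {x : G}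
    (hxb : x ∈ centralizer ({b} : Set G)) (hx : x ∈ Null T₂ e) : x ∈ Null T₂ b :=
  Null_consistent S.pair (S.loc b hb1) (S.isPGroup_zpowers hb) (S.sub₁ he)
    (S.le_cent (mem_sup_left he) b hb) hxb hx

theorem commutator_le_Null {b : G} (hb : b ∈ E₁ ⊔ E₂) (hb1 : b ≠ 1) {K : Subgroup G}
    (hK : K ≤ centralizer ({b} : Set G)) : ⁅K, E₁⁆ ≤ Null T₂ b :=
  le_trans (commutator_mono le_rfl (S.E₁_le_Null hb1 hb))
    (le_normalizer_iff_commutator_le_right.1
      (hK.trans (centralizer_le_normalizer_Null S.pair.right b)))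

theorem commutator_fix_le {t : G} (ht : t ∈ E₁) (ht1 : t ≠ 1) {a : G} (ha : a ∈ E₁ ⊔ E₂) :
    ⁅centralizerPPrimeCore 2 a, E₁⁆ ⊓ centralizer (E₁ : Set G) ≤ Null T₂ t := by
  refine (fixed_commutator_le S.four₁ (odd_R a) (le_sup_left.trans (S.invariant_R ha))).trans
    (iSup_le fun ⟨d, hd, hd1⟩ => ?_)
  rintro x ⟨hx, hxE⟩
  refine S.consistent hd (mem_sup_left ht) ht1 (mem_centralizer_singleton_iff.2 (hxE t ht).symm) ?_
  exact S.commutator_le_Null (mem_sup_left hd) hd1 inf_le_right hx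

theorem side_le {t : G} {a : G} (ha : a ∈ E₁ ⊔ E₂) :
    side T₂ E₁ t a ≤ centralizerPPrimeCore 2 a :=
  sup_le (le_normalizer_iff_commutator_le_left.1 (le_sup_left.trans (S.invariant_R ha)))
    inf_le_left

theorem side_invariant {t : G} (ht : t ∈ E₁) {a : G} {g : G}
    (hga : g ∈ centralizer ({a} : Set G)) (hg : g ∈ centralizer (E₁ : Set G)) :
    g ∈ normalizer (side T₂ E₁ t a : Set G) := by
  have hR : g ∈ normalizer (centralizerPPrimeCore 2 a : Set G) :=
    Signalizer.centralizer_le_normalizer_core a hga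
  have hgt : g ∈ centralizer ({t} : Set G) := mem_centralizer_singleton_iff.2 (hg t ht).symm
  have hE : g ∈ normalizer (E₁ : Set G) := Subgroup.centralizer_le_normalizer _ hg
  have hC : g ∈ normalizer ((centralizer (E₁ : Set G)) : Set G) := le_normalizer hg
  have hN := centralizer_le_normalizer_Null S.pair.right t hgt
  refine Coprime.mem_normalizer_of_forall fun x hx => ?_
  obtain ⟨k, hk, n, hn, rfl⟩ := (Coprime.mem_sup_iff (N := ⁅centralizerPPrimeCore 2 a, E₁⁆)
    (H := centralizerPPrimeCore 2 a ⊓ (centralizer (E₁ : Set G) ⊓ Null T₂ t))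
    (inf_le_left.trans (normalizer_commutator_ge_left _ _))).1 hx
  rw [show g * (k * n) * g⁻¹ = (g * k * g⁻¹) * (g * n * g⁻¹) by group]
  refine mul_mem (mem_sup_left ?_) (mem_sup_right ⟨?_, ?_, ?_⟩)
  · exact (mem_normalizer_iff.1 (Coprime.le_normalizer_commutator (zpowers_le.2 hR)
      (zpowers_le.2 hE) (mem_zpowers g)) k).1 hk
  · exact (mem_normalizer_iff.1 hR n).1 hn.1
  · exact (mem_normalizer_iff.1 hC n).1 hn.2.1
  · exact (mem_normalizer_iff.1 hN n).1 hn.2.2

theorem side_fix {t : G} (ht : t ∈ E₁) (ht1 : t ≠ 1) {a : G} (ha : a ∈ E₁ ⊔ E₂) :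
    side T₂ E₁ t a ⊓ centralizer (E₁ : Set G) ≤ Null T₂ t := by
  rintro x ⟨hx, hxE⟩
  obtain ⟨k, hk, n, hn, rfl⟩ := (Coprime.mem_sup_iff (N := ⁅centralizerPPrimeCore 2 a, E₁⁆)
    (H := centralizerPPrimeCore 2 a ⊓ (centralizer (E₁ : Set G) ⊓ Null T₂ t))
    (inf_le_left.trans (normalizer_commutator_ge_left _ _))).1 hx
  refine mul_mem (S.commutator_fix_le ht ht1 ha ⟨hk, ?_⟩) hn.2.2
  simpa using (centralizer (E₁ : Set G)).mul_mem hxE
    ((centralizer (E₁ : Set G)).inv_mem hn.2.1)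

/-- Balance on one side. -/
theorem balance_Null {t : G} (ht : t ∈ E₁) (ht1 : t ≠ 1) {a c : G} (ha : a ∈ E₁ ⊔ E₂)
    (hc : c ∈ E₁ ⊔ E₂) (hc1 : c ≠ 1) {X : Subgroup G} (hX : X ≤ side T₂ E₁ t a)
    (hXc : X ≤ centralizer ({c} : Set G)) (hEX : E₁ ≤ normalizer (X : Set G)) :
    X ≤ Null T₂ c := by
  have hXR := hX.trans (S.side_le ha)
  have hodd := (odd_R a).of_dvd_nat (Subgroup.card_dvd_of_le hXR)
  rw [← Coprime.commutator_sup_centralizer hEX (S.four₁.coprime hodd)
    (Or.inr (OddOrderTheorem.solvable hodd))]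
  refine sup_le (S.commutator_le_Null hc hc1 hXc) fun x hx => ?_
  exact S.consistent ht hc hc1 (hXc hx.1) (S.side_fix ht ht1 ha ⟨hX hx.1, hx.2⟩)

/-- Balance lands in the same side. -/
theorem balance_side {t : G} (ht : t ∈ E₁) (ht1 : t ≠ 1) {a c : G} (ha : a ∈ E₁ ⊔ E₂)
    {X : Subgroup G} (hX : X ≤ side T₂ E₁ t a) (hXc : X ≤ centralizerPPrimeCore 2 c)
    (hEX : E₁ ≤ normalizer (X : Set G)) : X ≤ side T₂ E₁ t c := by
  have hXR := hX.trans (S.side_le ha)
  have hodd := (odd_R a).of_dvd_nat (Subgroup.card_dvd_of_le hXR)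
  rw [← Coprime.commutator_sup_centralizer hEX (S.four₁.coprime hodd)
    (Or.inr (OddOrderTheorem.solvable hodd))]
  refine sup_le ((commutator_mono hXc le_rfl).trans le_sup_left) (le_trans ?_ le_sup_right)
  exact fun x hx => ⟨hXc hx.1, hx.2, S.side_fix ht ht1 ha ⟨hX hx.1, hx.2⟩⟩

/-- The description of a side by one element. -/
theorem side_eq {t : G} (ht : t ∈ E₁) (ht1 : t ≠ 1) {e : G} (he : e ∈ E₁) (he1 : e ≠ 1) {a : G}
    (ha : a ∈ E₁ ⊔ E₂) :
    side T₂ E₁ t a = ⁅centralizerPPrimeCore 2 a, zpowers e⁆ ⊔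
      (centralizerPPrimeCore 2 a ⊓ (centralizer ({e} : Set G) ⊓ Null T₂ e)) := by
  set R := centralizerPPrimeCore 2 a
  have hER : E₁ ≤ normalizer (R : Set G) := le_sup_left.trans (S.invariant_R ha)
  have heR : zpowers e ≤ normalizer (R : Set G) := (zpowers_le.2 he).trans hER
  set Z := R ⊓ (centralizer ({e} : Set G) ⊓ Null T₂ e)
  have hEe : E₁ ≤ centralizer ({e} : Set G) := fun x hx =>
    mem_centralizer_singleton_iff.2 (S.four₁.comm x hx e he)
  have hEN : E₁ ≤ normalizer (Null T₂ e : Set G) :=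
    hEe.trans (centralizer_le_normalizer_Null S.pair.right e)
  have hEZ : E₁ ≤ normalizer (Z : Set G) := fun g hg => Coprime.mem_normalizer_of_forall fun x hx =>
    ⟨(mem_normalizer_iff.1 (hER hg) x).1 hx.1, (centralizer ({e} : Set G)).mul_mem
      ((centralizer ({e} : Set G)).mul_mem (hEe hg) hx.2.1) ((centralizer ({e} : Set G)).inv_mem (hEe hg)),
      (mem_normalizer_iff.1 (hEN hg) x).1 hx.2.2⟩
  refine le_antisymm (sup_le ?_ ?_) (sup_le ?_ ?_)
  · set W := ⁅R, zpowers e⁆ ⊔ Z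
    have hEW : E₁ ≤ normalizer (W : Set G) := by
      intro g hg
      refine Coprime.mem_normalizer_of_forall fun x hx => ?_
      obtain ⟨k, hk, n, hn, rfl⟩ := (Coprime.mem_sup_iff (N := ⁅R, zpowers e⁆) (H := Z)
        (inf_le_left.trans (normalizer_commutator_ge_left _ _))).1 hx
      rw [show g * (k * n) * g⁻¹ = (g * k * g⁻¹) * (g * n * g⁻¹) by group]
      refine mul_mem (mem_sup_left ?_) (mem_sup_right ((mem_normalizer_iff.1 (hEZ hg) n).1 hn))
      refine (mem_normalizer_iff.1 (Coprime.le_normalizer_commutator hER ?_ hg) k).1 hk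
      intro y hy
      refine Subgroup.centralizer_le_normalizer _ ?_
      rw [zpowers_eq_closure, centralizer_closure]
      exact hEe hy
    refine commutator_le.2 fun r hr u hu => ?_
    have hodd := odd_R a
    have hsum := Coprime.commutator_sup_centralizer heR ((S.four₁.coprime hodd).coprime_dvd_left
      (Subgroup.card_dvd_of_le (zpowers_le.2 he))) (Or.inr (OddOrderTheorem.solvable hodd))
    obtain ⟨k, hk, c, hc, rfl⟩ := (Coprime.mem_sup_iff (N := ⁅R, zpowers e⁆)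
      (H := R ⊓ centralizer (zpowers e : Set G))
      (inf_le_left.trans (normalizer_commutator_ge_left _ _))).1 (hsum.ge hr)
    have hce : c ∈ centralizer ({e} : Set G) :=
      mem_centralizer_singleton_iff.2 (hc.2 e (mem_zpowers e)).symm
    have hcu : ⁅c, u⁆ ∈ W := by
      refine mem_sup_right ⟨?_, ?_, ?_⟩
      · rw [commutatorElement_def, show c * u * c⁻¹ * u⁻¹ = c * (u * c⁻¹ * u⁻¹) by group]
        exact R.mul_mem hc.1 ((mem_normalizer_iff.1 (hER hu) _).1 (R.inv_mem hc.1))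
      · exact (centralizer ({e} : Set G)).mul_mem ((centralizer ({e} : Set G)).mul_mem
          ((centralizer ({e} : Set G)).mul_mem hce (hEe hu))
          ((centralizer ({e} : Set G)).inv_mem hce)) ((centralizer ({e} : Set G)).inv_mem (hEe hu))
      · exact (Null T₂ e).mul_mem
          ((mem_normalizer_iff.1 (centralizer_le_normalizer_Null S.pair.right e hce) u).1
            (S.E₁_le_Null he1 (mem_sup_left he) hu))
          ((Null T₂ e).inv_mem (S.E₁_le_Null he1 (mem_sup_left he) hu))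
    rw [show ⁅k * c, u⁆ = k * ⁅c, u⁆ * (u * k⁻¹ * u⁻¹) by simp only [commutatorElement_def]; group]
    exact mul_mem (mul_mem (mem_sup_left hk) hcu)
      ((mem_normalizer_iff.1 (hEW hu) _).1 (inv_mem (mem_sup_left hk)))
  · intro x hx
    refine mem_sup_right ⟨hx.1, mem_centralizer_singleton_iff.2 (hx.2.1 e he).symm, ?_⟩
    exact S.consistent ht (mem_sup_left he) he1
      (mem_centralizer_singleton_iff.2 (hx.2.1 e he).symm) hx.2.2
  · exact (commutator_mono le_rfl (zpowers_le.2 he)).trans le_sup_left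
  · have hodd := (odd_R a).of_dvd_nat (Subgroup.card_dvd_of_le (inf_le_left : Z ≤ R))
    refine (Coprime.commutator_sup_centralizer hEZ (S.four₁.coprime hodd)
      (Or.inr (OddOrderTheorem.solvable hodd))).ge.trans ?_
    refine sup_le ((commutator_mono inf_le_left le_rfl).trans le_sup_left) (le_trans ?_ le_sup_right)
    exact fun x hx => ⟨hx.1.1, hx.2,
      S.consistent he (mem_sup_left ht) ht1 (mem_centralizer_singleton_iff.2 (hx.2 t ht).symm)
        hx.1.2.2⟩

theorem side_normalized {t : G} (ht : t ∈ E₁) (ht1 : t ≠ 1) {e : G} (he : e ∈ E₁) (he1 : e ≠ 1)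
    {a : G} (ha : a ∈ E₁ ⊔ E₂) {g : G} (hga : g ∈ centralizer ({a} : Set G))
    (hge : g ∈ centralizer ({e} : Set G)) : g ∈ normalizer (side T₂ E₁ t a : Set G) := by
  rw [S.side_eq ht ht1 he he1 ha]
  have hR : g ∈ normalizer (centralizerPPrimeCore 2 a : Set G) :=
    Signalizer.centralizer_le_normalizer_core a hga
  have hN := centralizer_le_normalizer_Null S.pair.right e hge
  have hZ : g ∈ normalizer (zpowers e : Set G) := by
    refine Subgroup.centralizer_le_normalizer _ ?_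
    rw [zpowers_eq_closure, centralizer_closure]
    exact hge
  refine Coprime.mem_normalizer_of_forall fun x hx => ?_
  obtain ⟨k, hk, n, hn, rfl⟩ := (Coprime.mem_sup_iff
    (N := ⁅centralizerPPrimeCore 2 a, zpowers e⁆)
    (H := centralizerPPrimeCore 2 a ⊓ (centralizer ({e} : Set G) ⊓ Null T₂ e))
    (inf_le_left.trans (normalizer_commutator_ge_left _ _))).1 hx
  rw [show g * (k * n) * g⁻¹ = (g * k * g⁻¹) * (g * n * g⁻¹) by group]
  refine mul_mem (mem_sup_left ?_) (mem_sup_right ⟨?_, ?_, ?_⟩)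
  · exact (mem_normalizer_iff.1 (Coprime.le_normalizer_commutator (zpowers_le.2 hR)
      (zpowers_le.2 hZ) (mem_zpowers g)) k).1 hk
  · exact (mem_normalizer_iff.1 hR n).1 hn.1
  · exact (centralizer ({e} : Set G)).mul_mem ((centralizer ({e} : Set G)).mul_mem hge hn.2.1)
      ((centralizer ({e} : Set G)).inv_mem hge)
  · exact (mem_normalizer_iff.1 hN n).1 hn.2.2

/-! ### The functor -/

theorem theta_le {t s : G} {a : G} (ha : a ∈ E₁ ⊔ E₂) :
    theta T₁ T₂ E₁ E₂ t s a ≤ centralizerPPrimeCore 2 a :=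
  inf_le_left.trans (S.side_le ha)

theorem theta_invariant {t s : G} (ht : t ∈ E₁) (hs : s ∈ E₂) {a : G} (ha : a ∈ E₁ ⊔ E₂)
    {g : G} (hg : g ∈ E₁ ⊔ E₂) : g ∈ normalizer (theta T₁ T₂ E₁ E₂ t s a : Set G) :=
  inf_normalizer_le_normalizer_inf
    ⟨S.side_invariant ht (S.le_cent_singleton ha hg) fun e he => S.le_cent hg e (mem_sup_left he),
      S.symm.side_invariant hs (S.le_cent_singleton ha hg) fun e he =>
        S.le_cent hg e (mem_sup_right he)⟩

theorem isSignalizerFunctor {t s : G} (ht : t ∈ E₁) (ht1 : t ≠ 1) (hs : s ∈ E₂) (hs1 : s ≠ 1) :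
    IsSolvableSignalizerFunctor 2 (E₁ ⊔ E₂) (theta T₁ T₂ E₁ E₂ t s) := by
  refine ⟨⟨fun a ha _ => (S.theta_le ha).trans (Signalizer.core_le_centralizer a),
    fun a ha _ h => ?_, fun a ha _ b hb x hx =>
      (mem_normalizer_iff.1 (S.theta_invariant ht hs ha hb) x).1 hx, fun a ha _ c hc hc1 => ?_⟩,
    fun a ha _ => OddOrderTheorem.solvable ((odd_R a).of_dvd_nat (Subgroup.card_dvd_of_le (S.theta_le ha)))⟩
  · have := (odd_R a).of_dvd_nat (Subgroup.card_dvd_of_le (S.theta_le (t := t) (s := s) ha))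
    rw [← Nat.not_even_iff_odd, even_iff_two_dvd] at this
    exact this h
  set X := theta T₁ T₂ E₁ E₂ t s a ⊓ centralizer ({c} : Set G)
  have hAX : E₁ ⊔ E₂ ≤ normalizer (X : Set G) := fun g hg =>
    inf_normalizer_le_normalizer_inf
      ⟨S.theta_invariant ht hs ha hg, le_normalizer (S.le_cent_singleton hc hg)⟩
  have hca : c ∈ centralizer ({a} : Set G) := S.le_cent_singleton ha hc
  have h1 := S.balance_Null ht ht1 ha hc hc1 (X := X) (inf_le_left.trans inf_le_left) inf_le_right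
    (le_sup_left.trans hAX)
  have h2 := S.symm.balance_Null hs hs1 (a := a) (c := c) (by rwa [sup_comm]) (by rwa [sup_comm])
    hc1 (X := X) (inf_le_left.trans inf_le_right) inf_le_right (le_sup_right.trans hAX)
  obtain ⟨e, he, f, hf, haef⟩ := S.mem_prod ha
  set N := centralizerPPrimeCore 2 a ⊓ centralizer ({c} : Set G)
  have hR : X ≤ centralizerPPrimeCore 2 c := fun x hx =>
    mem_R_of_Null S.pair.left S.pair.right (S.isPGroup_zpowers ha) (S.sub₁ he) (S.sub₂ hf)
      (S.le_cent_singleton hc (mem_sup_left he)) (S.le_cent_singleton hc (mem_sup_right hf)) haef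
      (N := N) (Nat.coprime_two_right.2 ((odd_R a).of_dvd_nat (Subgroup.card_dvd_of_le inf_le_left)))
      (inf_le_left.trans (Signalizer.core_le_centralizer a)) inf_le_right
      (fun g hg => inf_normalizer_le_normalizer_inf
        ⟨Signalizer.centralizer_le_normalizer_core a hg.1, le_normalizer hg.2⟩)
      ⟨S.theta_le ha hx.1, hx.2⟩ (Or.inl (h1 hx)) (Or.inl (h2 hx))
  exact le_inf (S.balance_side ht ht1 ha (inf_le_left.trans inf_le_left) hR (le_sup_left.trans hAX))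
    (S.symm.balance_side hs hs1 (a := a) (by rwa [sup_comm]) (inf_le_left.trans inf_le_right) hR
      (le_sup_right.trans hAX))

/-- The completion of the functor. -/
def completion (_S : Quad T₁ T₂ E₁ E₂) (t s : G) : Subgroup G :=
  ⨆ a : {a : G // a ∈ E₁ ⊔ E₂ ∧ a ≠ 1}, theta T₁ T₂ E₁ E₂ t s a

theorem completion_spec {t s : G} (ht : t ∈ E₁) (ht1 : t ≠ 1) (hs : s ∈ E₂) (hs1 : s ≠ 1) :
    Odd (Nat.card (S.completion t s)) ∧ ∀ a ∈ E₁ ⊔ E₂, a ≠ 1 →
      S.completion t s ⊓ centralizer {a} = theta T₁ T₂ E₁ E₂ t s a := by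
  haveI : Fact (Nat.Prime 2) := ⟨Nat.prime_two⟩
  obtain ⟨-, h1, h2⟩ := Signalizer.solvable_signalizer_functor S.elem S.le_card
    (S.isSignalizerFunctor ht ht1 hs hs1)
  exact ⟨by rw [← Nat.not_even_iff_odd, even_iff_two_dvd]; exact h1, h2⟩

theorem completion_invariant {t s : G} (ht : t ∈ E₁) (hs : s ∈ E₂) :
    E₁ ⊔ E₂ ≤ normalizer (S.completion t s : Set G) := by
  refine fun g hg => Coprime.mem_normalizer_of_forall fun x hx => ?_
  have h : S.completion t s ≤ (S.completion t s).comap (MulAut.conj g).toMonoidHom :=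
    iSup_le fun a y hy => (le_iSup (fun a : {a : G // a ∈ E₁ ⊔ E₂ ∧ a ≠ 1} =>
      theta T₁ T₂ E₁ E₂ t s a) a) ((mem_normalizer_iff.1 (S.theta_invariant ht hs a.2.1 hg) y).1 hy)
  exact h hx

/-- The centraliser of any pair `e`, `f` normalises the completion. -/
theorem centralizer_le_normalizer {t s : G} (ht : t ∈ E₁) (ht1 : t ≠ 1) (hs : s ∈ E₂) (hs1 : s ≠ 1)
    {e f : G} (he : e ∈ E₁) (he1 : e ≠ 1) (hf : f ∈ E₂) (hf1 : f ≠ 1) :
    centralizer ({e} : Set G) ⊓ centralizer ({f} : Set G) ≤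
      normalizer (S.completion t s : Set G) := by
  obtain ⟨hodd, hX⟩ := S.completion_spec ht ht1 hs hs1
  rintro g ⟨hge, hgf⟩
  refine Coprime.mem_normalizer_of_forall fun x hx => ?_
  set D := zpowers e ⊔ zpowers f
  have hDA : D ≤ E₁ ⊔ E₂ := sup_le_sup (zpowers_le.2 he) (zpowers_le.2 hf)
  have hDg : D ≤ centralizer {g} := sup_le
    (zpowers_le.2 (mem_centralizer_singleton_iff.2 (mem_centralizer_singleton_iff.1 hge).symm))
    (zpowers_le.2 (mem_centralizer_singleton_iff.2 (mem_centralizer_singleton_iff.1 hgf).symm))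
  haveI : IsMulCommutative D := ⟨⟨fun a b => Subtype.ext (S.le_cent (hDA b.2) a (hDA a.2))⟩⟩
  have hcyc : ¬ IsCyclic D := fun h => by
    obtain ⟨d, hd⟩ := h.exists_generator
    have hpow : ∀ y : D, y = 1 ∨ y = d := fun y => by
      obtain ⟨i, rfl⟩ := mem_zpowers_iff.1 (hd y)
      have h2 : d ^ (2 : ℤ) = 1 := by
        rw [zpow_two]; exact Subtype.ext (S.sq (hDA d.2))
      rcases Int.even_or_odd' i with ⟨k, rfl | rfl⟩
      · left; rw [zpow_mul, h2, one_zpow]
      · right; rw [zpow_add, zpow_one, zpow_mul, h2, one_zpow, one_mul]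
    have he' := (hpow ⟨e, mem_sup_left (mem_zpowers e)⟩).resolve_left
      fun h => he1 (congrArg Subtype.val h)
    have hf' := (hpow ⟨f, mem_sup_right (mem_zpowers f)⟩).resolve_left
      fun h => hf1 (congrArg Subtype.val h)
    have hef : e = f := congrArg Subtype.val (he'.trans hf'.symm)
    exact he1 (S.pair.disj e (S.sub₁ he) (hef.symm ▸ S.sub₂ hf :))
  have hle : S.completion t s ≤ (S.completion t s).comap (MulAut.conj g).toMonoidHom := by
    refine Coprime.le_of_noncyclic hcyc (hDA.trans (S.completion_invariant ht hs)) ?_ ?_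
    · have h2 : IsPGroup 2 D := (Signalizer.isPGroup_of_elemAb S.elem).to_le hDA
      haveI : Fact (Nat.Prime 2) := ⟨Nat.prime_two⟩
      obtain ⟨k, hk⟩ := IsPGroup.iff_card.1 h2
      rw [hk]
      exact Nat.Coprime.pow_left k (Nat.coprime_two_left.2 hodd)
    · intro b hb hb1
      rw [hX b (hDA hb) hb1]
      have hgb : g ∈ centralizer ({b} : Set G) := mem_centralizer_singleton_iff.2
        (mem_centralizer_singleton_iff.1 (hDg hb)).symm
      intro y hy
      have hn : g ∈ normalizer (theta T₁ T₂ E₁ E₂ t s b : Set G) :=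
        inf_normalizer_le_normalizer_inf
          ⟨S.side_normalized ht ht1 he he1 (hDA hb) hgb hge,
            S.symm.side_normalized hs hs1 hf hf1 (by rw [sup_comm]; exact hDA hb) hgb hgf⟩
      have h1 := (mem_normalizer_iff.1 hn y).1 hy
      rw [← hX b (hDA hb) hb1] at h1
      exact h1.1
  exact hle hx

/-- `[O(C(ts)), s]` lies in the completion. -/
theorem commutator_le_completion {t s : G} (ht : t ∈ E₁) (hs : s ∈ E₂) (hts : t * s ≠ 1) :
    ⁅centralizerPPrimeCore 2 (t * s), zpowers s⁆ ≤ S.completion t s := by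
  refine le_trans ?_ (le_iSup (fun a : {a : G // a ∈ E₁ ⊔ E₂ ∧ a ≠ 1} =>
    theta T₁ T₂ E₁ E₂ t s a) ⟨t * s, mul_mem_sup ht hs, hts⟩)
  refine le_inf (le_trans ?_ (le_sup_left : _ ≤ side T₂ E₁ t (t * s)))
    ((commutator_mono le_rfl (zpowers_le.2 hs)).trans le_sup_left)
  refine commutator_le.2 fun r hr y hy => ?_
  obtain ⟨i, rfl⟩ := mem_zpowers_iff.1 hy
  have hrc : Commute r (t * s) :=
    mem_centralizer_singleton_iff.1 (Signalizer.core_le_centralizer (p := 2) (t * s) hr)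
  have hcomm : Commute (t⁻¹) (t * s) :=
    (S.le_cent (mem_sup_left (inv_mem ht)) (t * s) (mul_mem_sup ht hs)).symm
  have es : s ^ i = t⁻¹ ^ i * (t * s) ^ i := by rw [← hcomm.mul_zpow, inv_mul_cancel_left]
  rw [es]
  have e : ⁅r, t⁻¹ ^ i * (t * s) ^ i⁆ = ⁅r, t⁻¹ ^ i⁆ := by
    have h1 : r * (t * s) ^ i * r⁻¹ = (t * s) ^ i := by
      rw [(hrc.zpow_right i).eq, mul_inv_cancel_right]
    simp only [commutatorElement_def]
    calc r * (t⁻¹ ^ i * (t * s) ^ i) * r⁻¹ * (t⁻¹ ^ i * (t * s) ^ i)⁻¹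
        = r * t⁻¹ ^ i * r⁻¹ * (r * (t * s) ^ i * r⁻¹) * ((t * s) ^ i)⁻¹ * (t⁻¹ ^ i)⁻¹ := by group
      _ = _ := by rw [h1]; group
  rw [e]
  exact commutator_mem_commutator hr (zpow_mem (inv_mem ht) i)

end Quad

end Cfsg.Agent.ClosedPair
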