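import Cfsg.Agent.Lib.ClosedPair.Data
import Cfsg.Agent.Lib.Components.TwoBalance
import Cfsg.Agent.Lib.Components.GenFitting
import Cfsg.Agent.Lib.Coprime.PQ

/-!
# The part of the layer belonging to one side of a closed pair (owner: helper65)

* `layerPart U` : the product of the components inside `U`
* `le_centralizer_of_odd`, `eq_one_of_odd_of_layerPart` : odd subgroups in a core-free group
* `null T` : the elements centralising the layer part of `⟨T⟩` modulo the core
* `mem_core_of_null` : the criterion for lying in the core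
* `mem_null_of_mem`, `mem_null_of_mem_center`
-/

set_option autoImplicit false

namespace Cfsg.Agent.ClosedPair

open scoped commutatorElement Pointwise
open Cfsg Subgroup Cfsg.Agent.Components

variable {G : Type*} [Group G]

/-- The product of the components inside `U`. -/
def layerPart (U : Subgroup G) : Subgroup G :=
  sSup {L : Subgroup G | Cfsg.IsComponent L ∧ L ≤ U}

theorem layerPart_le (U : Subgroup G) : layerPart U ≤ U := sSup_le fun _ h => h.2

theorem le_layerPart {U L : Subgroup G} (h : Cfsg.IsComponent L) (hle : L ≤ U) : L ≤ layerPart U :=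
  le_sSup ⟨h, hle⟩

theorem layerPart_normal (U : Subgroup G) [hU : U.Normal] : (layerPart U).Normal := by
  refine ⟨fun n hn g => ?_⟩
  have hle : layerPart U ≤ (layerPart U).comap (MulAut.conj g).toMonoidHom :=
    sSup_le fun L hL => Subgroup.map_le_iff_le_comap.1 (le_layerPart (IsComponent.conj hL.1 g)
      ((Subgroup.map_mono hL.2).trans (Subgroup.Normal.map_conj_eq U g).le))
  exact hle hn

variable [Finite G]

/-- In a core-free group an odd subgroup normalised by a normal subgroup centralises it. -/
theorem le_centralizer_of_odd (hO : pPrimeCore 2 G = ⊥) {H N : Subgroup G} [H.Normal]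
    (hN : (Nat.card N).Coprime 2) (hHN : H ≤ normalizer (N : Set G)) :
    N ≤ centralizer (H : Set G) := by
  rw [← commutator_eq_bot_iff_le_centralizer, commutator_comm]
  have hDH : ⁅H, N⁆ ≤ H := commutator_le_left H N
  have hDN : ⁅H, N⁆ ≤ N := le_normalizer_iff_commutator_le_right.1 hHN
  have h1 : ⁅H, N⁆ ≤ OCore 2 H := le_OCore hDH (normalizer_commutator_ge_left H N)
    (hN.coprime_dvd_left (Subgroup.card_dvd_of_le hDN))
  haveI : (OCore 2 H).Normal := ⟨fun n hn g => (mem_normalizer_iff.1
    (normalizer_le_normalizer_OCore H ((normalizer_eq_top (H := H)).ge (mem_top g))) n).1 hn⟩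
  exact le_bot_iff.1 (h1.trans ((Cores.le_pPrimeCore inferInstance
    (coprime_card_OCore H)).trans hO.le))

/-- The criterion in a core-free group. -/
theorem eq_one_of_odd_of_layerPart (hO : pPrimeCore 2 G = ⊥) {U₁ U₂ : Subgroup G} [U₁.Normal]
    [U₂.Normal] {a : G} (ha2 : IsPGroup 2 (zpowers a))
    (ha : a ∈ U₁ ⊔ U₂) {N : Subgroup G} (hN : (Nat.card N).Coprime 2)
    (hNa : N ≤ centralizer {a}) (haN : centralizer {a} ≤ normalizer (N : Set G)) {x : G}
    (hx : x ∈ N)
    (h₁ : x ∈ centralizer (layerPart U₁ : Set G) ∨ a ∈ centralizer (layerPart U₁ : Set G))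
    (h₂ : x ∈ centralizer (layerPart U₂ : Set G) ∨ a ∈ centralizer (layerPart U₂ : Set G)) :
    x = 1 := by
  haveI : Fact (Nat.Prime 2) := ⟨Nat.prime_two⟩
  have key : ∀ (H : Subgroup G), H.Normal → H ≤ centralizer {a} →
      x ∈ centralizer (H : Set G) := fun H hH hle => by
    haveI := hH
    exact le_centralizer_of_odd hO hN (hle.trans haN) hx
  have hpart : ∀ (U : Subgroup G), U.Normal →
      (x ∈ centralizer (layerPart U : Set G) ∨ a ∈ centralizer (layerPart U : Set G)) →
      layerPart U ≤ centralizer {x} := fun U hU h => by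
    haveI := hU
    have h' : x ∈ centralizer (layerPart U : Set G) := h.elim id fun h => key _ (layerPart_normal U)
      fun y hy => mem_centralizer_singleton_iff.2 (h y hy)
    exact fun y hy => mem_centralizer_singleton_iff.2 (h' y hy)
  -- the layer
  have hE : Cfsg.layer G ≤ centralizer {x} := by
    refine layer_le fun L hL => ?_
    by_cases hL₁ : L ≤ U₁
    · exact (le_layerPart hL hL₁).trans (hpart U₁ inferInstance h₁)
    by_cases hL₂ : L ≤ U₂
    · exact (le_layerPart hL hL₂).trans (hpart U₂ inferInstance h₂)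
    have hc : L ≤ centralizer ((U₁ ⊔ U₂ : Subgroup G) : Set G) := by
      rw [le_centralizer_iff]
      refine sup_le (le_centralizer_iff.1 ?_) (le_centralizer_iff.1 ?_)
      · exact commutator_eq_bot_iff_le_centralizer.1
          ((IsComponent.le_or_commutes hL (Normal.isSubnormal inferInstance)).resolve_left hL₁)
      · exact commutator_eq_bot_iff_le_centralizer.1
          ((IsComponent.le_or_commutes hL (Normal.isSubnormal inferInstance)).resolve_left hL₂)
    haveI : (Cfsg.layer G).Normal := layer_normal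
    have hx' := key (Cfsg.layer G ⊓ centralizer ((U₁ ⊔ U₂ : Subgroup G) : Set G)) inferInstance
      fun y hy => mem_centralizer_singleton_iff.2 (hy.2 a ha).symm
    exact fun y hy => mem_centralizer_singleton_iff.2 (hx' y ⟨IsComponent.le_layer hL hy, hc hy⟩)
  -- the core `O₂`
  have hF : N ≤ centralizer (pCore 2 G : Set G) := by
    haveI := Cores.pCore_normal 2 G
    refine Coprime.thompson_pq 2 ha2 hN (Cores.isPGroup_pCore 2 G) ?_ ?_ ?_ ?_
    · rw [zpowers_le]
      exact mem_centralizer_iff.2 fun n hn => mem_centralizer_singleton_iff.1 (hNa hn)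
    · exact fun y _ => (normalizer_eq_top (H := pCore 2 G)).ge (mem_top y)
    · exact fun y _ => (normalizer_eq_top (H := pCore 2 G)).ge (mem_top y)
    · rintro u ⟨hu, hua⟩
      refine mem_centralizer_iff.2 fun n hn => ?_
      have hua' : u ∈ centralizer {a} :=
        mem_centralizer_singleton_iff.2 (hua a (mem_zpowers a)).symm
      have h1 : n * u * n⁻¹ * u⁻¹ ∈ pCore 2 G ⊓ N := by
        refine ⟨(pCore 2 G).mul_mem ((Cores.pCore_normal 2 G).conj_mem u hu n)
          ((pCore 2 G).inv_mem hu), ?_⟩
        rw [show n * u * n⁻¹ * u⁻¹ = n * (u * n⁻¹ * u⁻¹) by group]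
        exact N.mul_mem hn ((mem_normalizer_iff.1 (haN hua') _).1 (N.inv_mem hn))
      obtain ⟨k, hk⟩ := IsPGroup.iff_card.mp (Cores.isPGroup_pCore 2 G)
      rw [Coprime.inf_eq_bot (hk ▸ (Nat.Coprime.pow_left k hN.symm)), mem_bot] at h1
      exact (commutatorElement_eq_one_iff_commute.1 h1).eq
  have hxF : x ∈ centralizer (Cfsg.generalizedFittingSubgroup G : Set G) := by
    refine mem_centralizer_iff.2 fun y hy => ?_
    have hle : Cfsg.generalizedFittingSubgroup G ≤ centralizer {x} := by
      refine sup_le hE ?_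
      rw [fitting_eq_pCore_of hO]
      exact fun y hy => mem_centralizer_singleton_iff.2 (hF hx y hy)
    exact mem_centralizer_singleton_iff.1 (hle hy)
  have hx2 := centralizer_genFitting_le_fitting hxF
  rw [fitting_eq_pCore_of hO] at hx2
  obtain ⟨k, hk⟩ := IsPGroup.iff_card.mp (Cores.isPGroup_pCore 2 G)
  rw [← mem_bot, ← Coprime.inf_eq_bot (A := pCore 2 G) (K := N)
    (hk ▸ (Nat.Coprime.pow_left k hN.symm))]
  exact ⟨hx2, hx⟩

/-- The elements centralising the layer part of `⟨T⟩` modulo the core. -/
def null (T : Set G) : Subgroup G :=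
  (centralizer (layerPart (closure (QuotientGroup.mk' (pPrimeCore 2 G) '' T)) :
    Set (G ⧸ pPrimeCore 2 G))).comap (QuotientGroup.mk' (pPrimeCore 2 G))

theorem mem_null {T : Set G} {x : G} : x ∈ null T ↔
    QuotientGroup.mk' (pPrimeCore 2 G) x ∈
      centralizer (layerPart (closure (QuotientGroup.mk' (pPrimeCore 2 G) '' T)) :
        Set (G ⧸ pPrimeCore 2 G)) := Iff.rfl

theorem null_normal {T : Set G} (hT : Closed T) : (null T).Normal := by
  haveI : (closure (QuotientGroup.mk' (pPrimeCore 2 G) '' T)).Normal :=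
    (hT.image (pPrimeCore 2 G)).normal_closure
  haveI := layerPart_normal (closure (QuotientGroup.mk' (pPrimeCore 2 G) '' T))
  exact Subgroup.Normal.comap inferInstance _

theorem mem_null_of_mem_center {T : Set G} {x : G} (hx : x ∈ center G) : x ∈ null T := by
  refine mem_null.2 (mem_centralizer_iff.2 fun y _ => ?_)
  obtain ⟨y, rfl⟩ := QuotientGroup.mk'_surjective _ y
  rw [← map_mul, ← map_mul, mem_center_iff.1 hx y]

/-- One side centralises the layer part of the other. -/
theorem mem_null_of_mem {T₁ T₂ : Set G} (hc : Conc T₁ T₂) {e : G} (he : e ∈ T₁) : e ∈ null T₂ := by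
  refine mem_null.2 (mem_centralizer_iff.2 fun y hy => ?_)
  have hle : closure (QuotientGroup.mk' (pPrimeCore 2 G) '' T₂) ≤
      centralizer {QuotientGroup.mk' (pPrimeCore 2 G) e} := by
    rw [closure_le]
    rintro _ ⟨f, hf, rfl⟩
    refine mem_centralizer_singleton_iff.2 ?_
    have h1 : QuotientGroup.mk' (pPrimeCore 2 G) ⁅e, f⁆ = 1 :=
      (QuotientGroup.eq_one_iff _).2 (hc e he f hf)
    rw [map_commutatorElement] at h1
    exact (commutatorElement_eq_one_iff_commute.1 h1).eq.symm
  exact mem_centralizer_singleton_iff.1 (hle (layerPart_le _ hy))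

/-- The criterion for lying in the core. -/
theorem mem_core_of_null {T₁ T₂ : Set G} (h₁T : Closed T₁) (h₂T : Closed T₂) {a : G}
    (ha2 : IsPGroup 2 (zpowers a)) (ha : a ∈ closure T₁ ⊔ closure T₂) {N : Subgroup G}
    (hN : (Nat.card N).Coprime 2) (hNa : N ≤ centralizer {a})
    (haN : centralizer {a} ≤ normalizer (N : Set G)) {x : G} (hx : x ∈ N)
    (h₁ : x ∈ null T₂ ∨ a ∈ null T₂) (h₂ : x ∈ null T₁ ∨ a ∈ null T₁) :
    x ∈ pPrimeCore 2 G := by
  haveI : Fact (Nat.Prime 2) := ⟨Nat.prime_two⟩
  set q := QuotientGroup.mk' (pPrimeCore 2 G) with hq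
  haveI : (closure (q '' T₁)).Normal := (h₁T.image (pPrimeCore 2 G)).normal_closure
  haveI : (closure (q '' T₂)).Normal := (h₂T.image (pPrimeCore 2 G)).normal_closure
  have hC : centralizer {q a} = (centralizer {a}).map q := by
    have h := centralizer_map_of_coprime (p := 2) ha2 (pPrimeCore 2 G)
      (Cores.coprime_card_pPrimeCore 2)
    rw [MonoidHom.map_zpowers, zpowers_eq_closure, zpowers_eq_closure, centralizer_closure,
      centralizer_closure] at h
    exact h
  rw [← QuotientGroup.eq_one_iff (N := pPrimeCore 2 G)]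
  show q x = 1
  refine eq_one_of_odd_of_layerPart (U₁ := closure (q '' T₁)) (U₂ := closure (q '' T₂))
    (Cores.pPrimeCore_quotient_self 2) (a := q a) ?_ ?_ (N := N.map q)
    (hN.coprime_dvd_left (card_map_dvd _ _)) ?_ ?_ (mem_map_of_mem q hx) h₂ h₁
  · rw [← MonoidHom.map_zpowers]; exact ha2.map q
  · rw [← MonoidHom.map_closure, ← MonoidHom.map_closure, ← Subgroup.map_sup]
    exact mem_map_of_mem q ha
  · rw [hC]; exact map_mono hNa
  · rw [hC]; exact (map_mono haN).trans (le_normalizer_map q)

end Cfsg.Agent.ClosedPair
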