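import Cfsg.Agent.Lib.ClosedPair.Layer
import Cfsg.Agent.Lib.Components.KBalance
import Cfsg.Agent.Lib.ExtLayer.Basic

/-!
# Null elements of the centralisers and their consistency (owner: helper65)

* `component_le_map_pLayer` : components of an image with odd kernel come from the 2-layer
* `Null T a` : the subgroup `null` of `C(a)`, inside the group
* `LocalConc T₁ T₂ a` : the product theorem holds in `C(a)`
* `mem_R_of_Null` : the criterion for lying in `O(C(b))`
* `Null_consistent` : null elements of `C(e)` are null in `C(b)` for `e ∈ T₁` commuting with `b`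
-/

set_option autoImplicit false

namespace Cfsg.Agent.ClosedPair

open scoped commutatorElement Pointwise
open Cfsg Subgroup Cfsg.Agent.Components

/-- A component inside the image comes from the 2-layer. -/
theorem component_le_map_pLayer {D Q : Type*} [Group D] [Finite D] [Group Q] [Finite Q]
    (hO : pPrimeCore 2 Q = ⊥) (φ : D →* Q) (hker : (Nat.card φ.ker).Coprime 2) {L : Subgroup Q}
    (hL : Cfsg.IsComponent L) (hle : L ≤ φ.range) : L ≤ (pLayer 2 D).map φ := by
  haveI : Fact (Nat.Prime 2) := ⟨Nat.prime_two⟩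
  set L' := L.comap φ with hL'
  have hmap : L'.map φ = L := map_comap_eq_self hle
  set O := pPrimeCore 2 D with hO'
  have hkO : φ.ker ≤ O := Cores.le_pPrimeCore inferInstance hker
  have hL'O : ¬ L' ≤ O := fun h => IsComponent.not_coprime (p := 2) hO hL (by
    rw [← hmap]
    exact (Cores.coprime_card_pPrimeCore 2).coprime_dvd_left
      ((card_map_dvd _ _).trans (Subgroup.card_dvd_of_le h)))
  have hne : Nontrivial ↥(L'.map (QuotientGroup.mk' O)) := by
    rw [nontrivial_iff_ne_bot, Ne, Subgroup.map_eq_bot_iff, QuotientGroup.ker_mk']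
    exact hL'O
  have hcomp : Cfsg.IsComponent (L'.map (QuotientGroup.mk' O)) := by
    refine ⟨(hL.1.comap φ).map (QuotientGroup.mk'_surjective O), ?_⟩
    let f : ↥L' →* ↥L := (φ.comp L'.subtype).codRestrict L fun z => z.2
    have hf : Function.Surjective f := fun z => by
      obtain ⟨d, hd⟩ := hle z.2
      exact ⟨⟨d, show φ d ∈ L from hd ▸ z.2⟩, Subtype.ext hd⟩
    let g : ↥L' →* ↥(L'.map (QuotientGroup.mk' O)) :=
      (QuotientGroup.mk' O).subgroupMap L'
    have hfg : f.ker ≤ g.ker := fun z hz => by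
      have h1 : φ (z : D) = 1 := congrArg Subtype.val (MonoidHom.mem_ker.1 hz)
      exact MonoidHom.mem_ker.2 (Subtype.ext ((QuotientGroup.eq_one_iff (z : D)).2 (hkO h1)))
    refine IsQuasisimple.of_surjective hL.2 (f.liftOfSurjective hf ⟨g, hfg⟩) fun y => ?_
    obtain ⟨x, rfl⟩ := (QuotientGroup.mk' O).subgroupMap_surjective L' y
    exact ⟨f x, MonoidHom.liftOfRightInverse_comp_apply f _ (Function.rightInverse_surjInv hf) ⟨g, hfg⟩ x⟩
  have hL'le : L' ≤ pLayer 2 D ⊔ O := by
    refine le_trans (le_comap_map (QuotientGroup.mk' O) L') ?_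
    refine (comap_mono ((IsComponent.le_layer hcomp).trans_eq map_pLayer.symm)).trans ?_
    rw [comap_map_eq, QuotientGroup.ker_mk']
  have hgen : (pGen 2 L').map φ = L := by
    rw [map_pGen_of_ker_coprime φ hker, hmap, IsComponent.pGen_eq hO hL]
  rw [← hgen]
  refine map_mono ?_
  have hPn : (pLayer 2 D).IsSubnormal := Normal.isSubnormal (ExtLayer.pLayer_normal 2)
  exact (pGen_mono hL'le).trans (pGen_le_of_le_sup hPn le_sup_left
    (Cores.coprime_card_pPrimeCore 2) le_rfl)

universe u

variable {G : Type u} [Group G] [Finite G]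

/-- The subgroup `null` of `C(a)`, inside the group. -/
def Null (T : Set G) (a : G) : Subgroup G :=
  (null ((centralizer ({a} : Set G)).subtype ⁻¹' T)).map (centralizer ({a} : Set G)).subtype

theorem Null_le (T : Set G) (a : G) : Null T a ≤ centralizer {a} := map_subtype_le _

theorem mem_Null {T : Set G} {a x : G} (hx : x ∈ centralizer ({a} : Set G)) :
    x ∈ Null T a ↔ (⟨x, hx⟩ : ↥(centralizer ({a} : Set G))) ∈
      null ((centralizer ({a} : Set G)).subtype ⁻¹' T) :=
  ⟨fun ⟨y, hy, e⟩ => by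
    have : y = ⟨x, hx⟩ := Subtype.ext e
    exact this ▸ hy, fun h => ⟨_, h, rfl⟩⟩

theorem centralizer_le_normalizer_Null {T : Set G} (hT : Closed T) (a : G) :
    centralizer {a} ≤ normalizer (Null T a : Set G) := by
  haveI := null_normal (hT.preimage (centralizer ({a} : Set G)).subtype_injective)
  have h := le_normalizer_map (centralizer ({a} : Set G)).subtype
    (H := null ((centralizer ({a} : Set G)).subtype ⁻¹' T))
  rw [normalizer_eq_top, ← MonoidHom.range_eq_map, range_subtype] at h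
  exact h

/-- The product theorem holds in `C(a)`. -/
def LocalConc (T₁ T₂ : Set G) (a : G) : Prop :=
  Conc ((centralizer ({a} : Set G)).subtype ⁻¹' T₁) ((centralizer ({a} : Set G)).subtype ⁻¹' T₂)

theorem LocalConc.symm {T₁ T₂ : Set G} {a : G} (h : LocalConc T₁ T₂ a) : LocalConc T₂ T₁ a :=
  Conc.symm h

theorem mem_Null_of_mem {T₁ T₂ : Set G} {a e : G} (hc : LocalConc T₁ T₂ a) (he : e ∈ T₁)
    (hea : e ∈ centralizer ({a} : Set G)) : e ∈ Null T₂ a :=
  (mem_Null hea).2 (mem_null_of_mem hc he)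

theorem self_mem_Null {T : Set G} (a : G) : a ∈ Null T a := by
  have ha : a ∈ centralizer ({a} : Set G) := mem_centralizer_singleton_iff.2 rfl
  refine (mem_Null ha).2 (mem_null_of_mem_center (mem_center_iff.2 fun y => Subtype.ext ?_))
  exact mem_centralizer_singleton_iff.1 y.2

/-- The criterion for lying in `O(C(b))`. -/
theorem mem_R_of_Null {T₁ T₂ : Set G} (h₁T : Closed T₁) (h₂T : Closed T₂) {a b : G}
    (ha2 : IsPGroup 2 (zpowers a)) {e f : G} (he : e ∈ T₁) (hf : f ∈ T₂)
    (heb : e ∈ centralizer ({b} : Set G)) (hfb : f ∈ centralizer ({b} : Set G)) (haef : a = e * f)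
    {N : Subgroup G} (hN : (Nat.card N).Coprime 2)
    (hNa : N ≤ centralizer ({a} : Set G)) (hNb : N ≤ centralizer ({b} : Set G))
    (haN : centralizer ({a} : Set G) ⊓ centralizer ({b} : Set G) ≤ normalizer (N : Set G))
    {x : G} (hx : x ∈ N) (h₁ : x ∈ Null T₂ b ∨ a ∈ Null T₂ b)
    (h₂ : x ∈ Null T₁ b ∨ a ∈ Null T₁ b) : x ∈ centralizerPPrimeCore 2 b := by
  set C := centralizer ({b} : Set G) with hC
  have hab : a ∈ C := haef ▸ C.mul_mem heb hfb
  refine ⟨⟨x, hNb hx⟩, mem_core_of_null (h₁T.preimage C.subtype_injective)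
    (h₂T.preimage C.subtype_injective) (a := ⟨a, hab⟩) ?_ ?_ (N := N.subgroupOf C) ?_ ?_ ?_
    (mem_subgroupOf.2 hx) ?_ ?_, rfl⟩
  · intro ⟨y, hy⟩
    have hy' : (y : G) ∈ zpowers a := by
      obtain ⟨i, rfl⟩ := mem_zpowers_iff.1 hy
      exact mem_zpowers_iff.2 ⟨i, by simp⟩
    obtain ⟨k, hk⟩ := ha2 ⟨(y : G), hy'⟩
    exact ⟨k, Subtype.ext (Subtype.ext (congrArg Subtype.val hk :))⟩
  · rw [show (⟨a, hab⟩ : ↥C) = ⟨e, heb⟩ * ⟨f, hfb⟩ from Subtype.ext haef]
    exact mul_mem_sup (subset_closure (show ((⟨e, heb⟩ : ↥C) : G) ∈ T₁ from he))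
      (subset_closure (show ((⟨f, hfb⟩ : ↥C) : G) ∈ T₂ from hf))
  · rwa [Cores.card_subgroupOf hNb]
  · intro y hy
    exact mem_centralizer_singleton_iff.2 (Subtype.ext
      (mem_centralizer_singleton_iff.1 (hNa (mem_subgroupOf.1 hy))))
  · intro y hy
    have hy' : (y : G) ∈ normalizer (N : Set G) := haN ⟨mem_centralizer_singleton_iff.2
      (congrArg Subtype.val (mem_centralizer_singleton_iff.1 hy)), y.2⟩
    exact mem_normalizer_iff.2 fun z => by
      simpa [mem_subgroupOf] using mem_normalizer_iff.1 hy' z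
  · exact h₁.imp (mem_Null (hNb hx)).1 (mem_Null hab).1
  · exact h₂.imp (mem_Null (hNb hx)).1 (mem_Null hab).1

/-- Null elements of `C(e)` are null in `C(b)`. -/
theorem Null_consistent {T₁ T₂ : Set G} (h : ClosedPair T₁ T₂) {b e : G}
    (hb : LocalConc T₁ T₂ b) (hb2 : IsPGroup 2 (zpowers b)) (he : e ∈ T₁) (hbe : b * e = e * b)
    {x : G} (hxb : x ∈ centralizer ({b} : Set G)) (hx : x ∈ Null T₂ e) : x ∈ Null T₂ b := by
  haveI : Fact (Nat.Prime 2) := ⟨Nat.prime_two⟩
  have hxe : x ∈ centralizer ({e} : Set G) := Null_le _ _ hx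
  rw [mem_Null hxb, mem_null]
  rw [mem_Null hxe, mem_null] at hx
  set X := centralizer ({b} : Set G) with hX
  set H := centralizer ({e} : Set G) with hH
  have heX : e ∈ X := mem_centralizer_singleton_iff.2 hbe.symm
  have hbH : b ∈ H := mem_centralizer_singleton_iff.2 hbe
  set q := QuotientGroup.mk' (pPrimeCore 2 ↥X) with hq
  set q' := QuotientGroup.mk' (pPrimeCore 2 ↥H) with hq'
  set S := q '' (X.subtype ⁻¹' T₂) with hS
  set eb : ↥X := ⟨e, heX⟩ with heb
  set bh : ↥H := ⟨b, hbH⟩ with hbh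
  have hSn : (closure S).Normal :=
    ((h.right.preimage X.subtype_injective).image (pPrimeCore 2 ↥X)).normal_closure
  have hMn : (layerPart (closure S)).Normal := @layerPart_normal _ _ (closure S) hSn
  have heM : ∀ y ∈ layerPart (closure S), y * q eb = q eb * y := fun y hy =>
    (mem_null.1 (mem_null_of_mem hb (e := eb) he) y hy)
  -- the common centraliser, mapped to both quotients
  set D := centralizer ((zpowers bh : Subgroup ↥H) : Set ↥H) with hD
  have hDX : ∀ d : ↥D, ((d : ↥H) : G) ∈ X := fun d => mem_centralizer_singleton_iff.2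
    (congrArg Subtype.val (mem_centralizer_iff.1 d.2 bh (mem_zpowers bh))).symm
  let ψ : ↥D →* ↥X := ((H.subtype.comp D.subtype)).codRestrict X hDX
  have hψrange : ψ.range = centralizer {eb} := by
    ext y
    constructor
    · rintro ⟨d, rfl⟩
      exact mem_centralizer_singleton_iff.2
        (Subtype.ext (mem_centralizer_singleton_iff.1 (d : ↥H).2))
    · intro hy
      have hyH : (y : G) ∈ H := mem_centralizer_singleton_iff.2
        (congrArg Subtype.val (mem_centralizer_singleton_iff.1 hy))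
      refine ⟨⟨⟨y, hyH⟩, ?_⟩, rfl⟩
      rw [hD, zpowers_eq_closure, centralizer_closure]
      exact mem_centralizer_singleton_iff.2 (Subtype.ext (mem_centralizer_singleton_iff.1 y.2))
  have hrange : (q.comp ψ).range = centralizer {q eb} := by
    rw [MonoidHom.range_comp, hψrange]
    have he2 : IsPGroup 2 (zpowers eb) := (h.left.preimage X.subtype_injective).isPGroup_zpowers
      (show (eb : G) ∈ T₁ from he)
    have h1 := centralizer_map_of_coprime (p := 2) he2 (pPrimeCore 2 ↥X)
      (Cores.coprime_card_pPrimeCore 2)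
    rw [MonoidHom.map_zpowers, zpowers_eq_closure, zpowers_eq_closure, centralizer_closure,
      centralizer_closure] at h1
    exact h1.symm
  have hker : (Nat.card (q.comp ψ).ker).Coprime 2 := by
    have hinj : Function.Injective ψ := fun a c e' => Subtype.ext (Subtype.ext (congrArg (fun z : ↥X => (z : G)) e' :))
    refine (Cores.coprime_card_pPrimeCore (G := ↥X) 2).coprime_dvd_left ?_
    rw [← MonoidHom.comap_ker, QuotientGroup.ker_mk']
    exact card_comap_dvd_of_injective _ ψ hinj
  -- lifts of the layer part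
  have hlift : ∀ l ∈ layerPart (closure S), ∃ k ∈ pLayer 2 ↥D, q (ψ k) = l := by
    intro l hl
    have hle : layerPart (closure S) ≤ (pLayer 2 ↥D).map (q.comp ψ) := sSup_le fun L hL =>
      component_le_map_pLayer (Cores.pPrimeCore_quotient_self 2) (q.comp ψ) hker hL.1 (by
        rw [hrange]
        exact fun y hy => mem_centralizer_singleton_iff.2 (heM y (le_layerPart hL.1 hL.2 hy)))
    obtain ⟨k, hk, e'⟩ := hle hl
    exact ⟨k, hk, e'⟩
  have hlayer : ∀ k ∈ pLayer 2 ↥D, q' (k : ↥H) ∈ Cfsg.layer (↥H ⧸ pPrimeCore 2 ↥H) := by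
    intro k hk
    have hbh2 : IsPGroup 2 (zpowers bh) := fun ⟨y, hy⟩ => by
      have hy' : (y : G) ∈ zpowers b := by
        obtain ⟨i, rfl⟩ := mem_zpowers_iff.1 hy
        exact mem_zpowers_iff.2 ⟨i, by simp [bh]⟩
      obtain ⟨n, hn⟩ := hb2 ⟨(y : G), hy'⟩
      exact ⟨n, Subtype.ext (Subtype.ext (congrArg Subtype.val hn :))⟩
    rw [← map_pLayer]
    exact mem_map_of_mem q' (pLayer_centralizer_le hbh2 ⟨k, hk, rfl⟩)
  set z : ↥X ⧸ pPrimeCore 2 ↥X := q ⟨x, hxb⟩ with hz
  have hxD : (⟨x, hxe⟩ : ↥H) ∈ D := by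
    rw [hD, zpowers_eq_closure, centralizer_closure]
    exact mem_centralizer_singleton_iff.2 (Subtype.ext (mem_centralizer_singleton_iff.1 hxb))
  set xd : ↥D := ⟨⟨x, hxe⟩, hxD⟩ with hxd
  have hzx : q (ψ xd) = z := rfl
  -- the odd subgroup
  set Z := ((pPrimeCore 2 ↥H).subgroupOf D).map (q.comp ψ) with hZ
  have hZodd : (Nat.card Z).Coprime 2 := by
    refine (Cores.coprime_card_pPrimeCore (G := ↥H) 2).coprime_dvd_left ?_
    refine (card_map_dvd _ _).trans ?_
    rw [← Cores.card_map_subtype D, subgroupOf_map_subtype]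
    exact Subgroup.card_dvd_of_le inf_le_left
  have hZn : layerPart (closure S) ≤ normalizer (Z : Set (↥X ⧸ pPrimeCore 2 ↥X)) := by
    intro y hy
    obtain ⟨k, -, rfl⟩ := hlift y hy
    haveI : ((pPrimeCore 2 ↥H).subgroupOf D).Normal := inferInstance
    exact le_normalizer_map (q.comp ψ)
      ⟨k, (normalizer_eq_top (H := (pPrimeCore 2 ↥H).subgroupOf D)).ge (mem_top k), rfl⟩
  have hZM : Z ≤ centralizer (layerPart (closure S) : Set (↥X ⧸ pPrimeCore 2 ↥X)) := by
    haveI := hMn
    exact le_centralizer_of_odd (Cores.pPrimeCore_quotient_self 2) hZodd hZn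
  -- the key commutators
  have key : ∀ l ∈ layerPart (closure S), ∀ s ∈ S, ⁅⁅l, s⁆, z⁆ = 1 := by
    rintro l hl _ ⟨f, hf, rfl⟩
    obtain ⟨k, hk, rfl⟩ := hlift l hl
    -- move `f` to commute with `e`
    haveI := hMn
    obtain ⟨f', hf', hfe, hff⟩ : ∃ f' : ↥X, (f' : G) ∈ T₂ ∧ f' * eb = eb * f' ∧ q f' = q f := by
      have hPb : IsPGroup 2 (closure ({q eb, q f} : Set (↥X ⧸ pPrimeCore 2 ↥X))) := by
        have hcomm : q eb * q f = q f * q eb := by
          have h1 : q ⁅eb, f⁆ = 1 := (QuotientGroup.eq_one_iff _).2 (hb eb he f hf)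
          rw [map_commutatorElement] at h1
          exact (commutatorElement_eq_one_iff_commute.1 h1).eq
        rw [Set.insert_eq, Subgroup.closure_union, ← zpowers_eq_closure, ← zpowers_eq_closure]
        refine IsPGroup.to_sup_of_normal_right'
          (((h.left.preimage X.subtype_injective).image _).isPGroup_zpowers ⟨eb, he, rfl⟩)
          (((h.right.preimage X.subtype_injective).image _).isPGroup_zpowers ⟨f, hf, rfl⟩) ?_
        rw [zpowers_le]
        refine centralizer_le_normalizer _ ?_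
        rw [zpowers_eq_closure, centralizer_closure]
        exact mem_centralizer_singleton_iff.2 hcomm
      obtain ⟨P, hP⟩ := exists_sylow_ge_image (pPrimeCore 2 ↥X) _ hPb
      obtain ⟨n, hn, hnP, hnT, -⟩ := (h.left.preimage X.subtype_injective).exists_lift _ P
        (x := eb) he (hP (subset_closure (Or.inl rfl)))
      obtain ⟨m, hm, hmP, hmT, em⟩ := (h.right.preimage X.subtype_injective).exists_lift _ P
        (x := f) hf (hP (subset_closure (Or.inr rfl)))
      have hc := (h.preimage X.subtype_injective).comm _ P.isPGroup' _ hnP _ hmP hnT hmT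
      refine ⟨n⁻¹ * (m * f * m⁻¹) * n, ?_, ?_, ?_⟩
      · simpa [mul_assoc] using h.right.conj ((n : G)⁻¹) _ hmT
      · calc n⁻¹ * (m * f * m⁻¹) * n * eb = n⁻¹ * ((m * f * m⁻¹) * (n * eb * n⁻¹)) * n := by group
          _ = n⁻¹ * ((n * eb * n⁻¹) * (m * f * m⁻¹)) * n := by rw [hc]
          _ = _ := by group
      · have h1 : q n = 1 := (QuotientGroup.eq_one_iff n).2 hn
        rw [map_mul, map_mul, map_inv, h1, em, inv_one, one_mul, mul_one]
    have hfH : (f' : G) ∈ H := mem_centralizer_singleton_iff.2 (congrArg Subtype.val hfe)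
    have hfD : (⟨f', hfH⟩ : ↥H) ∈ D := by
      rw [hD, zpowers_eq_closure, centralizer_closure]
      exact mem_centralizer_singleton_iff.2 (Subtype.ext (mem_centralizer_singleton_iff.1 f'.2))
    set fd : ↥D := ⟨⟨f', hfH⟩, hfD⟩ with hfd
    rw [← hff, ← show q (ψ fd) = q f' from rfl]
    -- in `C(e)`
    have hmem : q' (⁅(k : ↥H), (fd : ↥H)⁆) ∈
        layerPart (closure (q' '' (H.subtype ⁻¹' T₂))) := by
      rw [map_commutatorElement]
      have hU : (closure (q' '' (H.subtype ⁻¹' T₂))).Normal :=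
        ((h.right.preimage H.subtype_injective).image (pPrimeCore 2 ↥H)).normal_closure
      refine (show ⁅Cfsg.layer _, closure (q' '' (H.subtype ⁻¹' T₂))⁆ ≤ _ from ?_)
        (commutator_mem_commutator (hlayer k hk) (subset_closure ⟨fd, hf', rfl⟩))
      have hMn' : (layerPart (closure (q' '' (H.subtype ⁻¹' T₂)))).Normal :=
        @layerPart_normal _ _ _ hU
      set U := closure (q' '' (H.subtype ⁻¹' T₂))
      have hgen : Cfsg.layer (↥H ⧸ pPrimeCore 2 ↥H) ≤
          (Cfsg.layer (↥H ⧸ pPrimeCore 2 ↥H) ⊓ centralizer (U : Set _)) ⊔ layerPart U := by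
        refine layer_le fun K hK => ?_
        by_cases hKU : K ≤ U
        · exact (le_layerPart hK hKU).trans le_sup_right
        · refine le_trans (le_inf (IsComponent.le_layer hK) ?_) le_sup_left
          exact commutator_eq_bot_iff_le_centralizer.1
            ((IsComponent.le_or_commutes hK (Normal.isSubnormal hU)).resolve_left hKU)
      haveI := hMn'
      rw [commutator_le]
      intro g hg u hu
      obtain ⟨c, hc, m, hm, rfl⟩ := mem_sup_of_normal_right.1 (hgen hg)
      have hcu : ⁅c, u⁆ = 1 :=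
        commutatorElement_eq_one_iff_commute.2 (hc.2 u hu).symm
      have e' : ⁅c * m, u⁆ = c * ⁅m, u⁆ * c⁻¹ * ⁅c, u⁆ := by
        simp only [commutatorElement_def]; group
      rw [e', hcu, mul_one]
      refine hMn'.conj_mem _ ?_ c
      rw [commutatorElement_def, show m * u * m⁻¹ * u⁻¹ = m * (u * m⁻¹ * u⁻¹) by group]
      exact mul_mem hm (hMn'.conj_mem _ (inv_mem hm) u)
    have hN : (⁅⁅k, fd⁆, xd⁆ : ↥D) ∈ (pPrimeCore 2 ↥H).subgroupOf D := by
      rw [mem_subgroupOf, ← QuotientGroup.eq_one_iff (N := pPrimeCore 2 ↥H)]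
      show q' (D.subtype ⁅⁅k, fd⁆, xd⁆) = 1
      rw [map_commutatorElement, map_commutatorElement, map_commutatorElement]
      refine commutatorElement_eq_one_iff_commute.2 ?_
      rw [← map_commutatorElement]
      exact hx _ hmem
    have h1 : q (ψ ⁅⁅k, fd⁆, xd⁆) ∈ Z := mem_map_of_mem (q.comp ψ) hN
    rw [map_commutatorElement, map_commutatorElement, map_commutatorElement, map_commutatorElement,
      hzx] at h1
    have h2 : ⁅⁅q (ψ k), q (ψ fd)⁆, z⁆ ∈ layerPart (closure S) := by
      have hM1 : ⁅q (ψ k), q (ψ fd)⁆ ∈ layerPart (closure S) := by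
        rw [commutatorElement_def, show q (ψ k) * q (ψ fd) * (q (ψ k))⁻¹ * (q (ψ fd))⁻¹ =
          q (ψ k) * (q (ψ fd) * (q (ψ k))⁻¹ * (q (ψ fd))⁻¹) by group]
        exact mul_mem hl (hMn.conj_mem _ (inv_mem hl) _)
      rw [commutatorElement_def, show ⁅q (ψ k), q (ψ fd)⁆ * z * ⁅q (ψ k), q (ψ fd)⁆⁻¹ * z⁻¹ =
        ⁅q (ψ k), q (ψ fd)⁆ * (z * ⁅q (ψ k), q (ψ fd)⁆⁻¹ * z⁻¹) by group]
      exact mul_mem hM1 (hMn.conj_mem _ (inv_mem hM1) _)
    -- odd, central in the layer part, in the layer part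
    haveI := hMn
    set M := layerPart (closure S)
    have hI : (Nat.card ↥(M ⊓ Z)).Coprime 2 :=
      hZodd.coprime_dvd_left (Subgroup.card_dvd_of_le inf_le_right)
    have hIn : M ≤ normalizer ((M ⊓ Z : Subgroup _) : Set (↥X ⧸ pPrimeCore 2 ↥X)) :=
      (le_inf le_normalizer hZn).trans inf_normalizer_le_normalizer_inf
    have hle : M ⊓ Z ≤ OCore 2 M := le_OCore inf_le_left hIn hI
    haveI : (OCore 2 M).Normal := ⟨fun n hn g => (mem_normalizer_iff.1
      (normalizer_le_normalizer_OCore M ((normalizer_eq_top (H := M)).ge (mem_top g))) n).1 hn⟩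
    have hbot : OCore 2 M = ⊥ := le_bot_iff.1 ((Cores.le_pPrimeCore inferInstance
      (coprime_card_OCore M)).trans (Cores.pPrimeCore_quotient_self 2).le)
    exact mem_bot.1 (hbot ▸ hle ⟨h2, h1⟩)
  -- conclusion
  have hgen : ∀ u ∈ closure S, ∀ l ∈ layerPart (closure S), ⁅l, u⁆ ∈ centralizer {z} := by
    have hS' : Closed S := (h.right.preimage X.subtype_injective).image (pPrimeCore 2 ↥X)
    have hstep : ∀ c : ↥X ⧸ pPrimeCore 2 ↥X,
        (∀ l ∈ layerPart (closure S), ⁅l, c⁆ ∈ centralizer {z}) → ∀ s ∈ S,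
        ∀ l ∈ layerPart (closure S), ⁅l, c * s⁆ ∈ centralizer {z} := by
      intro c hc s hs l hl
      have e' : ⁅l, c * s⁆ = ⁅l, c⁆ * ⁅c * l * c⁻¹, c * s * c⁻¹⁆ := by
        simp only [commutatorElement_def]; group
      rw [e']
      exact mul_mem (hc l hl) (mem_centralizer_singleton_iff.2
        (commutatorElement_eq_one_iff_commute.1
          (key _ (hMn.conj_mem _ hl c) _ (hS'.conj c s hs))).eq)
    intro u hu
    induction hu using closure_induction_right with
    | one => intro l _; simp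
    | mul_right x _ y hy ih => exact hstep x ih y hy
    | mul_inv_cancel x _ y hy ih => exact hstep x ih y⁻¹ (hS'.inv_mem hy)
  have hfin : layerPart (closure S) ≤ centralizer {z} := sSup_le fun L hL => by
    refine (IsComponent.perfect hL.1).ge.trans ?_
    rw [commutator_le]
    exact fun l hl u hu => hgen u (hL.2 hu) l (le_layerPart hL.1 hL.2 hl)
  exact fun y hy => (mem_centralizer_singleton_iff.1 (hfin hy))

end Cfsg.Agent.ClosedPair
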