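import Cfsg.Agent.Lib.ClosedPair.Functor
import Cfsg.Agent.Lib.Signalizer.GraphTrivial
import Cfsg.Agent.Lib.ZStar.Apply
import Cfsg.Agent.Lib.ZStar.Unique

/-!
# No closed pair in a simple group (owner: helper65)

* `pairGroup`, `isFour_pairGroup` : the group generated by two commuting involutions
* `exists_four` : four-groups in a closed set through a given involution
* `exists_commuting_factor` : an involution of `T₁` against one of `T₂`
* `false_of_simple` : a simple group has no nontrivial closed pair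
-/

set_option autoImplicit false

namespace Cfsg.Agent.ClosedPair

open scoped commutatorElement Pointwise
open Cfsg Subgroup

universe u

variable {G : Type u} [Group G]

/-- The group `{1, a, b, a b}`. -/
def pairGroup (a b : G) (ha : a * a = 1) (hb : b * b = 1) (hab : a * b = b * a) : Subgroup G where
  carrier := {1, a, b, a * b}
  one_mem' := Or.inl rfl
  mul_mem' := by
    have h1 : a * (a * b) = b := by rw [← mul_assoc, ha, one_mul]
    have h2 : a * b * a = b := by rw [hab, mul_assoc, ha, mul_one]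
    have h3 : b * (a * b) = a := by rw [hab, ← mul_assoc, hb, one_mul]
    have h4 : a * b * b = a := by rw [mul_assoc, hb, mul_one]
    have h5 : a * b * (a * b) = 1 := by rw [← mul_assoc, h2, hb]
    intro x y hx hy
    simp only [Set.mem_insert_iff, Set.mem_singleton_iff] at hx hy ⊢
    rcases hx with rfl | rfl | rfl | rfl <;> rcases hy with rfl | rfl | rfl | rfl <;>
      simp only [one_mul, mul_one, ha, hb, h1, h2, h3, h4, h5, ← hab, true_or, or_true]
  inv_mem' := by
    intro x hx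
    simp only [Set.mem_insert_iff, Set.mem_singleton_iff] at hx ⊢
    rcases hx with rfl | rfl | rfl | rfl
    · simp
    · right; left; exact inv_eq_of_mul_eq_one_left ha
    · right; right; left; exact inv_eq_of_mul_eq_one_left hb
    · right; right; right
      refine inv_eq_of_mul_eq_one_left ?_
      calc a * b * (a * b) = a * b * (b * a) := by rw [← hab]
        _ = a * (b * b) * a := by group
        _ = 1 := by rw [hb, mul_one, ha]

theorem mem_pairGroup {a b : G} {ha : a * a = 1} {hb : b * b = 1} {hab : a * b = b * a} {x : G} :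
    x ∈ pairGroup a b ha hb hab ↔ x = 1 ∨ x = a ∨ x = b ∨ x = a * b := Iff.rfl

theorem isFour_pairGroup {a b : G} (ha : a * a = 1) (hb : b * b = 1) (hab : a * b = b * a)
    (ha1 : a ≠ 1) (hb1 : b ≠ 1) (hne : a ≠ b) : IsFour (pairGroup a b ha hb hab) where
  comm x hx y hy := by
    have hC : pairGroup a b ha hb hab ≤ centralizer ({a} : Set G) ⊓ centralizer ({b} : Set G) := by
      intro z hz
      have hA : a ∈ centralizer ({a} : Set G) ⊓ centralizer ({b} : Set G) :=
        ⟨mem_centralizer_singleton_iff.2 rfl, mem_centralizer_singleton_iff.2 hab⟩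
      have hB : b ∈ centralizer ({a} : Set G) ⊓ centralizer ({b} : Set G) :=
        ⟨mem_centralizer_singleton_iff.2 hab.symm, mem_centralizer_singleton_iff.2 rfl⟩
      rcases mem_pairGroup.1 hz with rfl | rfl | rfl | rfl
      exacts [one_mem _, hA, hB, mul_mem hA hB]
    have h1 : pairGroup a b ha hb hab ≤ centralizer {x} := by
      intro z hz
      rcases mem_pairGroup.1 hz with rfl | rfl | rfl | rfl
      · exact one_mem _
      · exact mem_centralizer_singleton_iff.2 (mem_centralizer_singleton_iff.1 (hC hx).1).symm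
      · exact mem_centralizer_singleton_iff.2 (mem_centralizer_singleton_iff.1 (hC hx).2).symm
      · exact mul_mem (mem_centralizer_singleton_iff.2 (mem_centralizer_singleton_iff.1 (hC hx).1).symm)
          (mem_centralizer_singleton_iff.2 (mem_centralizer_singleton_iff.1 (hC hx).2).symm)
    exact (mem_centralizer_singleton_iff.1 (h1 hy)).symm
  sq x hx := by
    rcases mem_pairGroup.1 hx with rfl | rfl | rfl | rfl
    · exact one_mul 1
    · exact ha
    · exact hb
    · calc a * b * (a * b) = a * b * (b * a) := by rw [← hab]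
        _ = a * (b * b) * a := by group
        _ = 1 := by rw [hb, mul_one, ha]
  card := by
    classical
    have e : Nat.card (pairGroup a b ha hb hab) = ({1, a, b, a * b} : Finset G).card := by
      rw [← Nat.card_eq_finsetCard]
      refine Nat.card_congr (Equiv.subtypeEquivRight fun x => ?_)
      simp [mem_pairGroup]
    have h1 : a * b ≠ 1 := fun h => hne (mul_right_cancel (h.trans hb.symm))
    have h2 : a ≠ a * b := fun h => hb1 (left_eq_mul.1 h)
    have h3 : b ≠ a * b := fun h => ha1 (right_eq_mul.1 h)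
    rw [e, Finset.card_insert_of_notMem (by simp [ha1.symm, hb1.symm, h1.symm]),
      Finset.card_insert_of_notMem (by simp [hne, h2]),
      Finset.card_insert_of_notMem (by simp [h3]), Finset.card_singleton]

variable [Finite G]

theorem conj_zpowers (g x : G) : MulAut.conj g • zpowers x = zpowers (g * x * g⁻¹) :=
  MonoidHom.map_zpowers _ x

theorem IsFour.isPGroup {E : Subgroup G} (hE : IsFour E) : IsPGroup 2 E :=
  IsPGroup.of_card (n := 2) (by rw [hE.card]; norm_num)

/-- A closed set contains an involution if it is not trivial. -/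
theorem Closed.exists_involution {T : Set G} (h : Closed T) {x : G} (hx : x ∈ T) (hx1 : x ≠ 1) :
    ∃ t ∈ T, t * t = 1 ∧ t ≠ 1 := by
  have hP := h.isPGroup_zpowers hx
  obtain ⟨k, hk⟩ := h.pow x hx
  have hpow : ∀ n : ℕ, x ^ n ∈ T := fun n => by
    induction n with
    | zero => rw [pow_zero]; exact h.one
    | succ n ih =>
      rw [pow_succ]
      exact h.mul _ hP _ (Subgroup.pow_mem _ (mem_zpowers x) n) _ (mem_zpowers x) ih hx
  induction k with
  | zero => exact absurd (by simpa using hk) hx1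
  | succ k ih =>
    by_cases h1 : x ^ 2 ^ k = 1
    · exact ih h1
    · exact ⟨x ^ 2 ^ k, hpow _, by rw [← pow_add, ← two_mul, ← pow_succ']; exact hk, h1⟩

/-- An involution of a closed set lies in a four-group inside it, within a given Sylow subgroup. -/
theorem exists_four (hO : pPrimeCore 2 G = ⊥) (hZ : center G = ⊥) {T : Set G} (h : Closed T)
    (P : Sylow 2 G) {t : G} (htP : t ∈ (P : Subgroup G)) (htT : t ∈ T) (ht : t * t = 1)
    (ht1 : t ≠ 1) :
    ∃ E : Subgroup G, IsFour E ∧ E ≤ P ∧ (E : Set G) ⊆ T ∧ t ∈ E := by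
  haveI : Fact (Nat.Prime 2) := ⟨Nat.prime_two⟩
  set K := h.sub (P : Subgroup G) P.isPGroup' with hK
  suffices ∃ u ∈ K, u * u = 1 ∧ u ≠ 1 ∧ u ≠ t ∧ t * u = u * t by
    obtain ⟨u, hu, hu2, hu1, hut, htu⟩ := this
    refine ⟨pairGroup t u ht hu2 htu, isFour_pairGroup ht hu2 htu ht1 hu1 hut.symm, ?_, ?_,
      mem_pairGroup.2 (Or.inr (Or.inl rfl))⟩
    all_goals
      have hle : pairGroup t u ht hu2 htu ≤ K := fun x hx => by
        rcases mem_pairGroup.1 hx with rfl | rfl | rfl | rfl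
        exacts [one_mem _, ⟨htP, htT⟩, hu, K.mul_mem ⟨htP, htT⟩ hu]
    · exact hle.trans fun x hx => hx.1
    · exact fun x hx => (hle hx).2
  by_contra hno
  push Not at hno
  -- a central involution of `K`
  haveI : Nontrivial K := ⟨⟨⟨t, htP, htT⟩, 1, fun e => ht1 (congrArg Subtype.val e)⟩⟩
  have hKp : IsPGroup 2 K := P.isPGroup'.to_le fun x hx => hx.1
  haveI := hKp.center_nontrivial
  obtain ⟨z, hz⟩ : ∃ z : center K, orderOf z = 2 := by
    refine exists_prime_orderOf_dvd_card' 2 ?_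
    obtain ⟨n, hn⟩ := IsPGroup.iff_card.1 (hKp.to_subgroup (center K))
    rw [hn]
    refine dvd_pow_self 2 fun e => ?_
    rw [e, pow_zero] at hn
    exact (not_subsingleton ↥(center K)) (Finite.card_le_one_iff_subsingleton.1 hn.le)
  have hz2 : ((z : K) : G) * ((z : K) : G) = 1 := by
    have h1 := pow_orderOf_eq_one z
    rw [hz, pow_two] at h1
    exact congrArg (fun y : center K => ((y : K) : G)) h1
  have hz1 : ((z : K) : G) ≠ 1 := fun e => by
    rw [show z = 1 from Subtype.ext (Subtype.ext e), orderOf_one] at hz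
    omega
  have hzt : t * ((z : K) : G) = ((z : K) : G) * t :=
    congrArg Subtype.val (mem_center_iff.1 z.2 ⟨t, htP, htT⟩)
  have hzeq : ((z : K) : G) = t := by
    by_contra hne
    exact hno _ (z : K).2 hz2 hz1 hne hzt
  have huniq : ∀ u ∈ K, u * u = 1 → u ≠ 1 → u = t := fun u hu hu2 hu1 => by
    by_contra hne
    refine hno u hu hu2 hu1 hne ?_
    rw [← hzeq]
    exact (congrArg Subtype.val (mem_center_iff.1 z.2 ⟨u, hu⟩)).symm
  -- so `t` is isolated
  have hiso : IsIsolatedInvolution t := by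
    refine ⟨orderOf_eq_prime (by rw [pow_two]; exact ht) ht1, fun g hg => ?_⟩
    by_contra hne
    have ht' : g * t * g⁻¹ * (g * t * g⁻¹) = 1 := by
      rw [show g * t * g⁻¹ * (g * t * g⁻¹) = g * (t * t) * g⁻¹ by group, ht]; group
    have ht'1 : g * t * g⁻¹ ≠ 1 := fun e => ht1 (by
      have : t = g⁻¹ * (g * t * g⁻¹) * g := by group
      rw [this, e]; group)
    have hF := isFour_pairGroup ht ht' hg.eq ht1 ht'1 (Ne.symm hne)
    obtain ⟨Q, hQ⟩ := hF.isPGroup.exists_le_sylow
    obtain ⟨k, hk⟩ := MulAction.exists_smul_eq G Q P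
    have hmove : ∀ x ∈ (Q : Subgroup G), k * x * k⁻¹ ∈ (P : Subgroup G) := fun x hx => by
      rw [← hk, Sylow.coe_subgroup_smul, Coprime.mem_conj]
      simpa [mul_assoc] using hx
    have hinv : ∀ x ∈ T, x ∈ (Q : Subgroup G) → x * x = 1 → x ≠ 1 → k * x * k⁻¹ = t :=
      fun x hxT hxQ hx2 hx1 => huniq _ ⟨hmove x hxQ, h.conj k x hxT⟩
        (by rw [show k * x * k⁻¹ * (k * x * k⁻¹) = k * (x * x) * k⁻¹ by group, hx2]; group)
        fun e => hx1 (by
          have : x = k⁻¹ * (k * x * k⁻¹) * k := by group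
          rw [this, e]; group)
    have h1 := hinv t htT (hQ (mem_pairGroup.2 (Or.inr (Or.inl rfl)))) ht ht1
    have h2 := hinv _ (h.conj g t htT) (hQ (mem_pairGroup.2 (Or.inr (Or.inr (Or.inl rfl))))) ht' ht'1
    exact hne (mul_left_cancel (mul_right_cancel (h2.trans h1.symm)))
  have hc := ZStar.isolated_mem_center ZStar.uniqueInvolution hiso hO
  rw [hZ, mem_bot] at hc
  exact ht1 hc

/-- An involution of `T₁` against one of `T₂`: it differs by an element of a core from one
commuting with the other. -/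
theorem exists_commuting_factor {T₁ T₂ : Set G} (h : ClosedPair T₁ T₂)
    (hloc : ∀ a : G, a ≠ 1 → LocalConc T₁ T₂ a) {x s : G} (hxT : x ∈ T₁) (hx : x * x = 1)
    (hx1 : x ≠ 1) (hsT : s ∈ T₂) (hs : s * s = 1) :
    ∃ x' ρ : G, x' ∈ T₁ ∧ x' * x' = 1 ∧ x' ≠ 1 ∧ x' * s = s * x' ∧
      ρ ∈ centralizerPPrimeCore 2 (x' * s) ∧ x = ρ * x' ∧
      (ρ * s = s * ρ → x * s = s * x) := by
  set c := x * s with hc
  have hxinv : x⁻¹ = x := inv_eq_of_mul_eq_one_left hx
  have hsinv : s⁻¹ = s := inv_eq_of_mul_eq_one_left hs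
  have hxc : x * c * x⁻¹ = c⁻¹ := by
    rw [hc, mul_inv_rev, hsinv, hxinv, ← mul_assoc, hx, one_mul]
  have hsc : s * c * s⁻¹ = c⁻¹ := by
    rw [hc, mul_inv_rev, hsinv, hxinv, mul_assoc, mul_assoc, hs, mul_one]
  have hxcn : ∀ i : ℤ, x * c ^ i * x⁻¹ = c ^ (-i) := fun i => by
    rw [← conj_zpow, hxc, inv_zpow, zpow_neg]
  have hscn : ∀ i : ℤ, s * c ^ i * s⁻¹ = c ^ (-i) := fun i => by
    rw [← conj_zpow, hsc, inv_zpow, zpow_neg]
  obtain ⟨k, l, hl, hn⟩ := Nat.exists_eq_two_pow_mul_odd (orderOf_pos c).ne'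
  obtain ⟨i, hi⟩ := hl
  set z := c ^ l with hz
  have hzz : z = c ^ (2 * (i : ℤ) + 1) := by
    rw [hz, hi, ← zpow_natCast]; push_cast; rfl
  have hxz : x * z = c ^ (-(i : ℤ)) * s * (c ^ (-(i : ℤ)))⁻¹ := by
    have e1 : c ^ (-(i : ℤ)) * s = s * c ^ (i : ℤ) := by
      rw [← hscn i]; group
    have e2 : s = x * c := by rw [hc, ← mul_assoc, hx, one_mul]
    rw [hzz, e1, zpow_neg, inv_inv, e2, mul_assoc, mul_assoc]
    congr 1
    group
  have hxzT : x * z ∈ T₂ := hxz ▸ h.right.conj _ s hsT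
  have hz2k : z ^ 2 ^ k = 1 := by
    rw [hz, ← pow_mul, mul_comm, ← hn, pow_orderOf_eq_one]
  have hP : IsPGroup 2 ↥(zpowers x ⊔ zpowers z) := by
    refine IsPGroup.to_sup_of_normal_right' (isPGroup_zpowers_of_sq hx) ?_ ?_
    · intro ⟨y, hy⟩
      obtain ⟨j, rfl⟩ := mem_zpowers_iff.1 hy
      refine ⟨k, Subtype.ext ?_⟩
      show (z ^ j) ^ 2 ^ k = 1
      rw [← zpow_natCast, ← zpow_mul, mul_comm, zpow_mul, zpow_natCast, hz2k, one_zpow]
    · refine zpowers_le.2 (mem_normalizer_iff.2 fun y => ?_)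
      have hstep : ∀ w ∈ zpowers z, x * w * x⁻¹ ∈ zpowers z := by
        intro w hw
        obtain ⟨j, rfl⟩ := mem_zpowers_iff.1 hw
        refine mem_zpowers_iff.2 ⟨-j, ?_⟩
        rw [hz, ← zpow_natCast, ← zpow_mul, ← zpow_mul, hxcn]
        ring_nf
      refine ⟨hstep y, fun hy => ?_⟩
      have h' := hstep _ hy
      rw [hxinv] at h'
      rwa [show x * (x * y * x) * x = (x * x) * y * (x * x) by group, hx, one_mul, mul_one] at h'
  have hxP : x ∈ zpowers x ⊔ zpowers z := mem_sup_left (mem_zpowers x)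
  have hzP : z ∈ zpowers x ⊔ zpowers z := mem_sup_right (mem_zpowers z)
  have hcomm := h.comm _ hP x hxP (x * z) (mul_mem hxP hzP) hxT hxzT
  have hzinv : z⁻¹ = z := by
    have e1 : x * z * x⁻¹ = z⁻¹ := by
      rw [hzz, hxcn, zpow_neg]
    rw [hxinv, ← hcomm, ← mul_assoc, hx, one_mul] at e1
    exact e1.symm
  have hz2 : z * z = 1 := by
    nth_rewrite 1 [← hzinv]
    exact inv_mul_cancel z
  have hz1 : z ≠ 1 := fun e => hx1 (h.disj x hxT (by rw [e, mul_one] at hxzT; exact hxzT))
  have hzx : x * z = z * x := by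
    have e1 : x * z * x⁻¹ = z := by rw [hzz, hxcn, zpow_neg, ← hzz, hzinv]
    exact mul_inv_eq_iff_eq_mul.1 e1
  have hzs : s * z = z * s := by
    have e1 : s * z * s⁻¹ = z := by rw [hzz, hscn, zpow_neg, ← hzz, hzinv]
    exact mul_inv_eq_iff_eq_mul.1 e1
  -- the core element
  have hcore : c ^ (2 : ℤ) ∈ centralizerPPrimeCore 2 z := by
    have hxC : x ∈ centralizer ({z} : Set G) := mem_centralizer_singleton_iff.2 hzx
    have hsC : s ∈ centralizer ({z} : Set G) := mem_centralizer_singleton_iff.2 hzs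
    have h1 := hloc z hz1 ⟨x, hxC⟩ hxT ⟨s, hsC⟩ hsT
    refine ⟨_, h1, ?_⟩
    show x * s * x⁻¹ * s⁻¹ = (x * s) ^ (2 : ℤ)
    rw [zpow_two, hxinv, hsinv]; group
  set x' := c ^ (i : ℤ) * x * (c ^ (i : ℤ))⁻¹ with hx'
  have hx'z : x' * s = z := by
    have e1 : x * c ^ (-(i : ℤ)) = c ^ (i : ℤ) * x := by
      have := hxcn (-(i : ℤ))
      rw [neg_neg] at this
      exact mul_inv_eq_iff_eq_mul.1 this
    have e2 : x' = c ^ (i : ℤ) * (c ^ (i : ℤ) * x) := by
      rw [hx', ← zpow_neg, mul_assoc, e1]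
    have e3 : x * s = c := hc.symm
    rw [e2, hzz, mul_assoc, mul_assoc, e3]
    group
  refine ⟨x', c ^ (-(2 * (i : ℤ))), h.left.conj _ x hxT, ?_, ?_, ?_, ?_, ?_, ?_⟩
  · rw [hx', show c ^ (i : ℤ) * x * (c ^ (i : ℤ))⁻¹ * (c ^ (i : ℤ) * x * (c ^ (i : ℤ))⁻¹) =
      c ^ (i : ℤ) * (x * x) * (c ^ (i : ℤ))⁻¹ by group, hx]
    group
  · intro e
    refine hx1 ?_
    have : x = (c ^ (i : ℤ))⁻¹ * x' * c ^ (i : ℤ) := by rw [hx']; group
    rw [this, e]; group
  · have e : x' = z * s := by rw [← hx'z, mul_assoc, hs, mul_one]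
    rw [e, mul_assoc, hs, mul_one, ← mul_assoc, hzs, mul_assoc, hs, mul_one]
  · rw [hx'z, neg_mul_eq_mul_neg, zpow_mul]
    exact zpow_mem hcore _
  · have e1 : x * c ^ (-(i : ℤ)) = c ^ (i : ℤ) * x := by
      have := hxcn (-(i : ℤ))
      rw [neg_neg] at this
      exact mul_inv_eq_iff_eq_mul.1 this
    rw [hx', ← zpow_neg, mul_assoc (c ^ (i : ℤ)), e1]
    group
  · intro hρ
    have h1 : c ^ (4 * (i : ℤ)) = 1 := by
      have e1 := hscn (-(2 * (i : ℤ)))
      rw [← hρ, mul_inv_cancel_right, neg_neg] at e1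
      have e2 : c ^ (4 * (i : ℤ)) = c ^ (2 * (i : ℤ)) * c ^ (2 * (i : ℤ)) := by
        rw [← zpow_add]; ring_nf
      rw [e2]
      nth_rewrite 1 [← e1]
      rw [← zpow_add, neg_add_cancel, zpow_zero]
    have h2 : c ^ (2 : ℤ) = 1 := by
      have e1 : c ^ (2 * (2 * (i : ℤ) + 1)) = 1 := by
        rw [mul_comm, zpow_mul, ← hzz, zpow_two, hz2]
      have e2 : c ^ (2 : ℤ) = c ^ (2 * (2 * (i : ℤ) + 1)) * (c ^ (4 * (i : ℤ)))⁻¹ := by
        rw [← zpow_neg, ← zpow_add]; ring_nf
      rw [e2, e1, h1, inv_one, one_mul]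
    rw [zpow_two, hc] at h2
    calc x * s = (x * s)⁻¹ := eq_inv_of_mul_eq_one_left h2
      _ = s * x := by rw [mul_inv_rev, hsinv, hxinv]

/-- A simple group has no nontrivial closed pair. -/
theorem false_of_simple [IsSimpleGroup G] (hna : ∃ a b : G, a * b ≠ b * a) {T₁ T₂ : Set G}
    (h : ClosedPair T₁ T₂) (hloc : ∀ a : G, a ≠ 1 → LocalConc T₁ T₂ a)
    {x₁ x₂ : G} (hx₁ : x₁ ∈ T₁) (hx₁1 : x₁ ≠ 1) (hx₂ : x₂ ∈ T₂) (hx₂1 : x₂ ≠ 1) : False := by
  haveI : Fact (Nat.Prime 2) := ⟨Nat.prime_two⟩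
  obtain ⟨t₀, ht₀T, ht₀, ht₀1⟩ := h.left.exists_involution hx₁ hx₁1
  obtain ⟨s₀, hs₀T, hs₀, hs₀1⟩ := h.right.exists_involution hx₂ hx₂1
  have htop : ∀ N : Subgroup G, N.Normal → N ≠ ⊥ → N = ⊤ := fun N hN hne =>
    hN.eq_bot_or_eq_top.resolve_left hne
  have hZ : center G = ⊥ := by
    rcases (inferInstance : (center G).Normal).eq_bot_or_eq_top with e | e
    · exact e
    · obtain ⟨a, b, hab⟩ := hna
      exact absurd (mem_center_iff.1 (e.ge (mem_top b)) a) hab
  have hnotodd : ¬ Odd (Nat.card G) := fun hodd => by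
    rw [← Nat.not_even_iff_odd, even_iff_two_dvd] at hodd
    have h2 : orderOf t₀ = 2 := orderOf_eq_prime (by rw [pow_two]; exact ht₀) ht₀1
    exact hodd (h2 ▸ orderOf_dvd_natCard t₀)
  have hproper : ∀ X : Subgroup G, Odd (Nat.card X) → X ≠ ⊥ → normalizer (X : Set G) ≠ ⊤ :=
    fun X hX hne e => by
      have := htop X (normalizer_eq_top_iff.1 e) hne
      rw [this, Subgroup.card_top] at hX
      exact hnotodd hX
  have hO : pPrimeCore 2 G = ⊥ := by
    by_contra hne
    have := htop _ (Cores.pPrimeCore_normal 2 G) hne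
    refine hnotodd (Nat.coprime_two_right.1 ?_)
    have hc := Cores.coprime_card_pPrimeCore (G := G) 2
    rwa [this, Subgroup.card_top] at hc
  have hclosure : ∀ {T : Set G}, Closed T → ∀ t ∈ T, t * t = 1 → t ≠ 1 →
      closure {y | y ∈ T ∧ y * y = 1} = ⊤ := fun {T} hT t ht ht2 ht1 => by
    refine htop _ ⟨fun n hn g => ?_⟩ ?_
    · have hle : closure {y | y ∈ T ∧ y * y = 1} ≤
          (closure {y | y ∈ T ∧ y * y = 1}).comap (MulAut.conj g).toMonoidHom :=
        (Subgroup.closure_le _).2 fun y hy => subset_closure ⟨hT.conj g y hy.1, by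
          show g * y * g⁻¹ * (g * y * g⁻¹) = 1
          rw [show g * y * g⁻¹ * (g * y * g⁻¹) = g * (y * y) * g⁻¹ by group, hy.2]; group⟩
      exact hle hn
    · exact fun e => ht1 (mem_bot.1 (e ▸ subset_closure ⟨ht, ht2⟩))
  by_cases hall : ∀ x ∈ T₁, x * x = 1 → x ≠ 1 → ∀ s ∈ T₂, s * s = 1 → s ≠ 1 → x * s = s * x →
      ⁅centralizerPPrimeCore 2 (x * s), zpowers s⁆ = ⊥
  · have hle : closure {y | y ∈ T₁ ∧ y * y = 1} ≤ centralizer ({s₀} : Set G) := by
      refine (closure_le _).2 fun y ⟨hy, hy2⟩ => mem_centralizer_singleton_iff.2 ?_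
      by_cases hy1 : y = 1
      · simp [hy1]
      obtain ⟨x', ρ, hx'T, hx', hx'1, hx's, hρ, -, hfin⟩ :=
        exists_commuting_factor h hloc hy hy2 hy1 hs₀T hs₀
      refine hfin ((commutatorElement_eq_one_iff_commute.1 ?_).eq)
      rw [← mem_bot, ← hall x' hx'T hx' hx'1 s₀ hs₀T hs₀ hs₀1 hx's]
      exact commutator_mem_commutator hρ (mem_zpowers s₀)
    rw [hclosure h.left t₀ ht₀T ht₀ ht₀1] at hle
    refine hs₀1 (mem_bot.1 (hZ ▸ mem_center_iff.2 fun g => ?_))
    exact mem_centralizer_singleton_iff.1 (hle (mem_top g))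
  push Not at hall
  obtain ⟨t, htT, ht, ht1, s, hsT, hs, hs1, hts, hW⟩ := hall
  have htsne : t ≠ s := fun e => ht1 (h.disj t htT (e ▸ hsT))
  obtain ⟨P, hP⟩ := (isFour_pairGroup ht hs hts ht1 hs1 htsne).isPGroup.exists_le_sylow
  obtain ⟨E₁, hE₁, hE₁P, hE₁T, htE⟩ := exists_four hO hZ h.left P
    (hP (mem_pairGroup.2 (Or.inr (Or.inl rfl)))) htT ht ht1
  obtain ⟨E₂, hE₂, hE₂P, hE₂T, hsE⟩ := exists_four hO hZ h.right P
    (hP (mem_pairGroup.2 (Or.inr (Or.inr (Or.inl rfl))))) hsT hs hs1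
  have S : Quad T₁ T₂ E₁ E₂ := ⟨h, hloc, hE₁, hE₂, hE₁T, hE₂T, fun a ha b hb =>
    h.comm _ P.isPGroup' a (hE₁P ha) b (hE₂P hb) (hE₁T ha) (hE₂T hb)⟩
  have hts1 : t * s ≠ 1 := fun e => htsne (mul_right_cancel (e.trans hs.symm))
  set X := S.completion t s
  have hX : X ≠ ⊥ := fun e => hW (le_bot_iff.1 ((S.commutator_le_completion htE hsE hts1).trans e.le))
  obtain ⟨hXodd, -⟩ := S.completion_spec htE ht1 hsE hs1
  have hNX := hproper X hXodd hX
  -- the subgroup generated by the cores of `E₂`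
  set Y : Subgroup G := ⨆ f : {f : G // f ∈ E₂ ∧ f ≠ 1}, centralizerPPrimeCore 2 (f : G) with hY
  have hRY : ∀ f ∈ E₂, f ≠ 1 → centralizerPPrimeCore 2 f ≤ Y := fun f hf hf1 =>
    le_iSup (fun f : {f : G // f ∈ E₂ ∧ f ≠ 1} => centralizerPPrimeCore 2 (f : G)) ⟨f, hf, hf1⟩
  have hYN : Y ≤ normalizer (X : Set G) := iSup_le fun ⟨f, hf, hf1⟩ => by
    haveI : IsMulCommutative E₁ := ⟨⟨fun a b => Subtype.ext (hE₁.comm a a.2 b b.2)⟩⟩
    refine Coprime.le_of_noncyclic hE₁.not_cyclic
      (le_sup_left.trans (S.invariant_R (mem_sup_right hf))) (hE₁.coprime (odd_R f))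
      fun e he he1 => ?_
    exact le_trans (le_inf inf_le_right (inf_le_left.trans (Signalizer.core_le_centralizer f)))
      (S.centralizer_le_normalizer htE ht1 hsE hs1 he he1 hf hf1)
  set M := centralizer (E₂ : Set G) ⊔ Y
  have hM : M ≠ ⊤ := fun e => by
    have hYn : M ≤ normalizer (Y : Set G) := by
      refine sup_le (fun g hg => Coprime.mem_normalizer_of_forall fun y hy => ?_) le_normalizer
      have hle : Y ≤ Y.comap (MulAut.conj g).toMonoidHom := iSup_le fun ⟨f, hf, hf1⟩ z hz =>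
        hRY f hf hf1 ((mem_normalizer_iff.1 (Signalizer.centralizer_le_normalizer_core f
          (mem_centralizer_singleton_iff.2 (hg f hf).symm)) z).1 hz)
      exact hle hy
    rw [e, top_le_iff, normalizer_eq_top_iff] at hYn
    have hY1 : Y = ⊥ := by
      by_contra hne
      exact hNX (top_le_iff.1 ((htop Y hYn hne).ge.trans hYN))
    have e' : centralizer (E₂ : Set G) = ⊤ := by rw [← e]; simp [M, hY1]
    refine hs1 (mem_bot.1 (hZ ▸ mem_center_iff.2 fun g => ?_))
    exact ((e'.ge (mem_top g)) s hsE).symm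
  refine hM (top_le_iff.1 ((hclosure h.left t₀ ht₀T ht₀ ht₀1).ge.trans ((closure_le _).2 ?_)))
  rintro y ⟨hy, hy2⟩
  by_cases hy1 : y = 1
  · exact hy1 ▸ one_mem M
  obtain ⟨x', ρ, hx'T, hx', hx'1, hx's, hρ, hyx, -⟩ :=
    exists_commuting_factor h hloc hy hy2 hy1 hsT hs
  -- move `x'` to commute with `E₂`
  set K := centralizerPPrimeCore 2 s with hK
  have hEs : E₂ ≤ centralizer ({s} : Set G) := fun f hf =>
    mem_centralizer_singleton_iff.2 (hE₂.comm f hf s hsE)
  have hEK : E₂ ≤ normalizer (K : Set G) := hEs.trans (Signalizer.centralizer_le_normalizer_core s)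
  have hKodd := odd_R s
  obtain ⟨k, hk, hkn⟩ := Coprime.exists_invariant_conj (P := zpowers x') hEK (hE₂.coprime hKodd)
    (Or.inr (OddOrderTheorem.solvable hKodd)) (fun f hf => by
      have hx'C : x' ∈ centralizer ({s} : Set G) := mem_centralizer_singleton_iff.2 hx's
      have hr : ⁅x', f⁆⁻¹ ∈ K :=
        K.inv_mem ⟨_, hloc s hs1 ⟨x', hx'C⟩ hx'T ⟨f, hEs hf⟩ (hE₂T hf), rfl⟩
      generalize hρ' : ⁅x', f⁆⁻¹ = r at hr
      have hfinv : f⁻¹ = f := inv_eq_of_mul_eq_one_left (hE₂.sq f hf)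
      have hx'inv : x'⁻¹ = x' := inv_eq_of_mul_eq_one_left hx'
      have hrinv : x' * r * x'⁻¹ = r⁻¹ := by
        rw [← hρ']; simp only [commutatorElement_def, mul_inv_rev, inv_inv, hfinv, hx'inv]
        calc x' * (f * (x' * (f * x'))) * x' = x' * f * x' * f * (x' * x') := by group
          _ = _ := by rw [hx', mul_one]
      have hcop : Nat.Coprime 2 (orderOf r) := Nat.coprime_two_left.2
        (hKodd.of_dvd_nat (Subgroup.orderOf_dvd_natCard K hr))
      obtain ⟨m, hm⟩ := exists_pow_eq_self_of_coprime hcop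
      rw [← pow_mul, mul_comm, pow_mul] at hm
      refine ⟨r ^ m, K.pow_mem hr m, ?_⟩
      have e1 : x' * (r ^ m) * x'⁻¹ = (r ^ m)⁻¹ := by rw [← conj_pow, hrinv, inv_pow]
      have e2 : r ^ m * x' * (r ^ m)⁻¹ = f * x' * f⁻¹ := by
        calc r ^ m * x' * (r ^ m)⁻¹ = r ^ m * (x' * (r ^ m)⁻¹ * x'⁻¹) * x' := by group
          _ = r ^ m * (x' * (r ^ m) * x'⁻¹)⁻¹ * x' := by group
          _ = (r ^ m) ^ 2 * x' := by rw [e1]; group
          _ = r * x' := by rw [hm]
          _ = _ := by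
            rw [← hρ']; simp only [commutatorElement_def, mul_inv_rev, inv_inv, hfinv, hx'inv]
            calc f * (x' * (f * x')) * x' = f * x' * f * (x' * x') := by group
              _ = _ := by rw [hx', mul_one]
      rw [conj_zpowers, conj_zpowers, e2])
  set x'' := k * x' * k⁻¹ with hx''
  have hks : k * s * k⁻¹ = s := by
    rw [mem_centralizer_singleton_iff.1 (Signalizer.core_le_centralizer (p := 2) s hk),
      mul_inv_cancel_right]
  have hx''2 : x'' * x'' = 1 := by
    rw [hx'', show k * x' * k⁻¹ * (k * x' * k⁻¹) = k * (x' * x') * k⁻¹ by group, hx']; group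
  have hx''E : ∀ f ∈ E₂, x'' * f = f * x'' := fun f hf => by
    have h1 := (mem_normalizer_iff.1 (hkn hf) x'').1 (by
      rw [conj_zpowers]
      exact mem_zpowers _)
    rw [conj_zpowers] at h1
    obtain ⟨i, hi⟩ := mem_zpowers_iff.1 h1
    have h2 : x'' ^ (2 : ℤ) = 1 := by rw [zpow_two, hx''2]
    rcases Int.even_or_odd' i with ⟨j, rfl | rfl⟩
    · rw [zpow_mul, h2, one_zpow] at hi
      have : x'' = f⁻¹ * 1 * f := by rw [hi]; group
      rw [mul_one, inv_mul_cancel] at this
      rw [this, one_mul, mul_one]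
    · rw [zpow_add, zpow_mul, h2, one_zpow, one_mul, zpow_one] at hi
      exact (eq_mul_inv_iff_mul_eq.1 hi)
  have hx''s := hx''E s hsE
  have hx''T : x'' ∈ T₁ := h.left.conj k x' hx'T
  set R' := centralizerPPrimeCore 2 (x'' * s) with hR'
  have hEC : E₂ ≤ centralizer ({x'' * s} : Set G) := fun f hf =>
    mem_centralizer_singleton_iff.2 (by
      calc f * (x'' * s) = x'' * f * s := by rw [← mul_assoc, hx''E f hf]
        _ = x'' * s * f := by rw [mul_assoc, hE₂.comm f hf s hsE, ← mul_assoc])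
  have hER' : E₂ ≤ normalizer (R' : Set G) :=
    hEC.trans (Signalizer.centralizer_le_normalizer_core _)
  have hR'M : R' ≤ M := by
    refine (le_gens_sup hE₂ (odd_R _) hER').trans (sup_le ((closure_le _).2 ?_) ?_)
    swap
    · exact inf_le_right.trans le_sup_left
    rintro z ⟨f, hf, hf1, hz⟩
    refine (show ⁅R' ⊓ centralizer {f}, E₂⁆ ≤ M from commutator_le.2 fun r hr f' hf' => ?_) hz
    refine le_sup_right (a := centralizer (E₂ : Set G)) (hRY f hf hf1 ?_)
    set N := R' ⊓ centralizer ({f} : Set G)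
    have hEf : E₂ ≤ centralizer ({f} : Set G) := fun g hg =>
      mem_centralizer_singleton_iff.2 (hE₂.comm g hg f hf)
    have hfN : E₂ ≤ normalizer (N : Set G) := centralizer_inf_invariant hE₂ hER' hf
    have hxf : x'' ∈ centralizer ({f} : Set G) := mem_centralizer_singleton_iff.2 (hx''E f hf)
    have hxN : x'' ∈ Null T₂ f := mem_Null_of_mem (hloc f hf1) hx''T hxf
    have hn1 := centralizer_le_normalizer_Null h.right f hr.2
    have hn2 := centralizer_le_normalizer_Null h.left f hr.2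
    have hf'N : f' ∈ Null T₁ f := mem_Null_of_mem (hloc f hf1).symm (hE₂T hf') (hEf hf')
    refine mem_R_of_Null h.left h.right
      (isPGroup_zpowers_of_sq (a := x'' * s) (by
        rw [show x'' * s * (x'' * s) = x'' * (s * x'') * s by group, ← hx''s,
          show x'' * (x'' * s) * s = (x'' * x'') * (s * s) by group, hx''2, hs, one_mul]))
      hx''T hsT hxf (hEf hsE) rfl (N := N)
      (Nat.coprime_two_right.2 ((odd_R _).of_dvd_nat (Subgroup.card_dvd_of_le inf_le_left)))
      (inf_le_left.trans (Signalizer.core_le_centralizer _)) inf_le_right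
      (fun g hg => inf_normalizer_le_normalizer_inf
        ⟨Signalizer.centralizer_le_normalizer_core _ hg.1, le_normalizer hg.2⟩) ?_ ?_ ?_
    · exact le_normalizer_iff_commutator_le_left.1 hfN (commutator_mem_commutator hr hf')
    · by_cases hfs : f = s
      · exact Or.inr ((Null T₂ f).mul_mem hxN (hfs ▸ self_mem_Null f))
      · left
        have hrs : Commute r (x'' * s) := mem_centralizer_singleton_iff.1
          (Signalizer.core_le_centralizer (p := 2) _ hr.1)
        have hrf : Commute r f := mem_centralizer_singleton_iff.1 hr.2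
        have hz1 : ⁅r, s⁆ ∈ Null T₂ f := by
          have es : s = x''⁻¹ * (x'' * s) := by group
          have e1 : r * s * r⁻¹ = r * x''⁻¹ * r⁻¹ * (x'' * s) := by
            calc r * s * r⁻¹ = r * x''⁻¹ * (x'' * s * r⁻¹) := by group
              _ = r * x''⁻¹ * (r⁻¹ * (x'' * s)) := by rw [hrs.symm.inv_right.eq]
              _ = _ := by group
          have e2 : ⁅r, s⁆ = (r * x''⁻¹ * r⁻¹) * x'' := by
            rw [commutatorElement_def, e1, mul_assoc, mul_assoc x'', mul_inv_cancel, mul_one]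
          rw [e2]
          exact mul_mem ((mem_normalizer_iff.1 hn1 _).1 (inv_mem hxN)) hxN
        rcases hE₂.eq_cases hf hsE hf1 hs1 hfs hf' with rfl | rfl | rfl | rfl
        · simp
        · rw [commutatorElement_eq_one_iff_commute.2 hrf]
          exact one_mem _
        · exact hz1
        · have : ⁅r, f * s⁆ = f * ⁅r, s⁆ * f⁻¹ := by
            simp only [commutatorElement_def]
            calc r * (f * s) * r⁻¹ * (f * s)⁻¹ = (r * f) * s * r⁻¹ * s⁻¹ * f⁻¹ := by group
              _ = (f * r) * s * r⁻¹ * s⁻¹ * f⁻¹ := by rw [hrf.eq]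
              _ = _ := by group
          rw [this]
          exact (mem_normalizer_iff.1 (centralizer_le_normalizer_Null h.right f
            (mem_centralizer_singleton_iff.2 rfl)) _).1 hz1
    · exact Or.inl (mul_mem ((mem_normalizer_iff.1 hn2 f').1 hf'N) (inv_mem hf'N))
  have hkM : k ∈ M := mem_sup_right (hRY s hsE hs1 hk)
  have hx'M : x' ∈ M := by
    have : x' = k⁻¹ * x'' * k := by rw [hx'']; group
    rw [this]
    refine M.mul_mem (M.mul_mem (M.inv_mem hkM) (mem_sup_left fun f hf => ?_)) hkM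
    exact (hx''E f hf).symm
  have hρM : ρ ∈ M := by
    have h1 : k * ρ * k⁻¹ ∈ R' := by
      have e : R' = (centralizerPPrimeCore 2 (x' * s)).map (MulAut.conj k).toMonoidHom := by
        rw [Signalizer.map_conj_centralizerPPrimeCore, hR', hx'']
        congr 1
        conv_lhs => rw [← hks]
        group
      exact e ▸ ⟨ρ, hρ, rfl⟩
    have : ρ = k⁻¹ * (k * ρ * k⁻¹) * k := by group
    rw [this]
    exact M.mul_mem (M.mul_mem (M.inv_mem hkM) (hR'M h1)) hkM
  rw [SetLike.mem_coe, hyx]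
  exact M.mul_mem hρM hx'M

end Cfsg.Agent.ClosedPair
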